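import Cfsg.Agent.Lib.Lie.JankoSylow.ClosedAbelian
import Cfsg.Agent.Lib.Lie.JankoSylow.CentPair
import Cfsg.Agent.Lib.Fusion.NPC

/-!
A closed elementary abelian subgroup with solvable centralisers and two classes of involutions is normal
modulo the odd core.
-/

set_option autoImplicit false
set_option linter.style.haveILetI false
set_option linter.unusedSectionVars false

namespace Cfsg.Agent.AEightClosed

open Cfsg.Agent.Lie.JankoSylow (Closed two_of_sq closed_normal solvable_ext solvable_of_sq)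

universe u

variable {R : Type u} [Group R] [Finite R]

/-- Two involutions with product of odd order are conjugate. -/
theorem conj_of_odd_prod {a b : R} (ha : a * a = 1) (hb : b * b = 1) (hodd : Odd (orderOf (a * b))) :
    ∃ m ∈ Subgroup.zpowers (a * b), m * b * m⁻¹ = a := by
  obtain ⟨j, hj⟩ := hodd
  set d := a * b with hd
  have h0 : b * d = d⁻¹ * b := by
    rw [hd, mul_inv_rev, inv_eq_of_mul_eq_one_right ha, inv_eq_of_mul_eq_one_right hb, mul_assoc]
  have hpow : ∀ k : ℕ, b * d ^ k = (d ^ k)⁻¹ * b := fun k => by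
    induction k with
    | zero => simp
    | succ k ih => rw [pow_succ, ← mul_assoc, ih, mul_assoc, h0, ← mul_assoc, ← mul_inv_rev, ← pow_succ', ← pow_succ]
  refine ⟨d ^ (j + 1), pow_mem (Subgroup.mem_zpowers d) _, ?_⟩
  have h1 : b * (d ^ (j + 1))⁻¹ = d ^ (j + 1) * b := by
    rw [mul_inv_eq_iff_eq_mul, mul_assoc, hpow, ← mul_assoc, mul_inv_cancel, one_mul]
  rw [mul_assoc, h1, ← mul_assoc, ← pow_add, show j + 1 + (j + 1) = (2 * j + 1) + 1 by ring, pow_succ, ← hj,
    pow_orderOf_eq_one, one_mul, hd, mul_assoc, hb, mul_one]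

/-- Involutions congruent modulo a normal subgroup of odd order are conjugate by it. -/
theorem conj_mod_odd (M : Subgroup R) [M.Normal] (hM : Odd (Nat.card M)) {a b : R} (ha : a * a = 1)
    (hb : b * b = 1) (hab : a * b ∈ M) : ∃ m ∈ M, m * b * m⁻¹ = a := by
  obtain ⟨m, hm, h⟩ := conj_of_odd_prod ha hb (hM.of_dvd_nat (Subgroup.orderOf_dvd_natCard M hab))
  exact ⟨m, Subgroup.zpowers_le.2 hab hm, h⟩

/-- the general criterion -/
theorem normal_core_of_closed {A : Subgroup R} (hA : ∀ a ∈ A, a * a = 1) (h8 : 8 ≤ Nat.card A) (hcl : Closed A)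
    (hsol : ∀ a ∈ A, a ≠ 1 → Group.IsSolvable ↥(Subgroup.centralizer ({a} : Set R))) {u v : R} (hu : u ∈ A)
    (hv : v ∈ A) (hu1 : u ≠ 1) (hv1 : v ≠ 1) (hne : ¬ IsConj u v) : (A ⊔ Cfsg.oddCore R).Normal := by
  haveI : Fact (Nat.Prime 2) := ⟨Nat.prime_two⟩
  set O := Cfsg.oddCore R
  haveI : O.Normal := StrongProd.oddCore_normal _
  let π := QuotientGroup.mk' O
  have hodd : Odd (Nat.card O) := Char.card_oddCore_odd R
  have hdis : ∀ a ∈ A, a ∈ O → a = 1 := fun a ha haO => by
    have h1 := hodd.of_dvd_nat (Subgroup.orderOf_dvd_natCard _ haO)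
    have h2 : orderOf a ∣ 2 := orderOf_dvd_of_pow_eq_one (by rw [pow_two, hA a ha])
    rcases (Nat.dvd_prime Nat.prime_two).1 h2 with h | h
    · exact orderOf_eq_one_iff.1 h
    · rw [h] at h1; exact absurd h1 (by decide)
  have hinj : Function.Injective (π.subgroupMap A) := by
    rw [injective_iff_map_eq_one]
    rintro ⟨a, ha⟩ h
    exact Subtype.ext (hdis a ha ((QuotientGroup.eq_one_iff a).1 (congrArg Subtype.val h)))
  have hcard : Nat.card (A.map π) = Nat.card A :=
    (Nat.card_congr (Equiv.ofBijective _ ⟨hinj, π.subgroupMap_surjective A⟩)).symm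
  have hsq : ∀ a ∈ A.map π, a * a = 1 := by
    rintro _ ⟨a, ha, rfl⟩
    rw [← map_mul, hA a ha, map_one]
  have key : (A.map π).Normal := by
    refine closed_normal Fusion.pPrimeCore_quotient_eq_bot
      ⟨StrongProd.comm_of_sq hsq, fun a ha => (pow_two a).trans (hsq a ha)⟩ (by rw [hcard]; exact h8)
      (hcl.map (two_of_sq hA) O) ?_ ⟨π u, ⟨u, hu, rfl⟩, π v, ⟨v, hv, rfl⟩,
        fun h => hu1 (hdis u hu ((QuotientGroup.eq_one_iff u).1 h)),
        fun h => hv1 (hdis v hv ((QuotientGroup.eq_one_iff v).1 h)), ?_⟩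
    · rintro _ ⟨a, ha, rfl⟩ hne1
      have ha1 : a ≠ 1 := fun e => hne1 (by rw [e, map_one])
      let f : ↥(Subgroup.centralizer ({a} : Set R)) →* ↥(Subgroup.centralizer ({π a} : Set (R ⧸ O))) :=
        (π.comp (Subgroup.subtype _)).codRestrict _ fun c => by
          rw [Subgroup.mem_centralizer_singleton_iff]
          show π (c : R) * π a = π a * π (c : R)
          rw [← map_mul, ← map_mul, Subgroup.mem_centralizer_singleton_iff.1 c.2]
      haveI := hsol a ha ha1
      refine Group.isSolvable_of_surjective (f := f) fun y => ?_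
      obtain ⟨x, hx⟩ := QuotientGroup.mk'_surjective O (y : R ⧸ O)
      have hy : π x * π a = π a * π x := by
        rw [show π x = (y : R ⧸ O) from hx]
        exact Subgroup.mem_centralizer_singleton_iff.1 y.2
      have hO' : a * (x * a * x⁻¹) ∈ O := by
        rw [← QuotientGroup.eq_one_iff]
        show π (a * (x * a * x⁻¹)) = 1
        rw [map_mul, map_mul, map_mul, map_inv, hy, mul_inv_cancel_right, ← map_mul, hA a ha, map_one]
      obtain ⟨m, hm, e⟩ := conj_mod_odd O hodd (hA a ha) (by rw [conj_mul, hA a ha, mul_one, mul_inv_cancel]) hO'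
      refine ⟨⟨m * x, ?_⟩, Subtype.ext ?_⟩
      · rw [Subgroup.mem_centralizer_singleton_iff, ← mul_inv_eq_iff_eq_mul]
        exact (by group : m * x * a * (m * x)⁻¹ = m * (x * a * x⁻¹) * m⁻¹).trans e
      · show π (m * x) = (y : R ⧸ O)
        rw [map_mul, show π m = 1 from (QuotientGroup.eq_one_iff m).2 hm, one_mul]
        exact hx
    · rintro h
      obtain ⟨y, hy⟩ := isConj_iff.1 h
      obtain ⟨x, rfl⟩ := QuotientGroup.mk'_surjective O y
      have hO' : v * (x * u * x⁻¹) ∈ O := by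
        rw [← QuotientGroup.eq_one_iff]
        show π (v * (x * u * x⁻¹)) = 1
        rw [map_mul, map_mul, map_mul, map_inv, hy, ← map_mul, hA v hv, map_one]
      obtain ⟨m, -, e⟩ := conj_mod_odd O hodd (hA v hv) (by rw [conj_mul, hA u hu, mul_one, mul_inv_cancel]) hO'
      exact hne (isConj_iff.2 ⟨m * x, by rw [← e]; group⟩)
  have h := key.comap π
  rwa [Subgroup.comap_map_eq, QuotientGroup.ker_mk'] at h

/-- Some odd power of an element normalising an abelian Sylow subgroup centralises it. -/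
theorem odd_pow_centralizes (P : Sylow 2 R) (hcomm : ∀ p ∈ P, ∀ q ∈ P, p * q = q * p) {c : R}
    (hc : c ∈ Subgroup.normalizer (P : Set R)) :
    ∃ n : ℕ, Odd n ∧ c ^ n ∈ Subgroup.centralizer ((P : Subgroup R) : Set R) := by
  haveI : Fact (Nat.Prime 2) := ⟨Nat.prime_two⟩
  set N := Subgroup.normalizer ((P : Subgroup R) : Set R)
  set C := (Subgroup.centralizer ((P : Subgroup R) : Set R)).subgroupOf N
  haveI : C.Normal := inferInstance
  refine ⟨C.index, ?_, Subgroup.pow_index_mem C ⟨c, hc⟩⟩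
  rw [← Nat.not_even_iff_odd, even_iff_two_dvd]
  intro hd
  have hle : (P : Subgroup R).subgroupOf N ≤ C := fun p hp =>
    Subgroup.mem_centralizer_iff.2 fun q hq => hcomm q hq p hp
  exact ((Fusion.sylIn_top P).mono Subgroup.le_normalizer (le_top : N ≤ ⊤)).not_dvd
    (hd.trans (Subgroup.index_dvd_of_le hle))

/-- Solvability from closed abelian Sylow 2-subgroups with two classes. -/
theorem solvable_of_abelian_sylow (P : Sylow 2 R) (hsq : ∀ p ∈ (P : Subgroup R), p * p = 1)
    (h8 : 8 ≤ Nat.card P)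
    (hfix : ∀ h ∈ (P : Subgroup R), h ≠ 1 → ∀ c ∈ Subgroup.normalizer ((P : Subgroup R) : Set R), c * h = h * c →
      ∀ p ∈ (P : Subgroup R), c * p = p * c)
    {u v : R} (hu : u ∈ P) (hv : v ∈ P) (hu1 : u ≠ 1) (hv1 : v ≠ 1) (hne : ¬ IsConj u v) :
    Group.IsSolvable R := by
  haveI : Fact (Nat.Prime 2) := ⟨Nat.prime_two⟩
  set O := Cfsg.oddCore R
  haveI : O.Normal := StrongProd.oddCore_normal _
  have hcl : Closed (P : Subgroup R) := fun T hT hPT a _ g hg => P.3 hT hPT ▸ hg
  have hsol : ∀ a ∈ (P : Subgroup R), a ≠ 1 → Group.IsSolvable ↥(Subgroup.centralizer ({a} : Set R)) := by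
    intro a ha ha1
    set C := Subgroup.centralizer ({a} : Set R)
    have hPC : (P : Subgroup R) ≤ C := fun p hp =>
      Subgroup.mem_centralizer_singleton_iff.2 (StrongProd.commute_of_sq hsq hp ha)
    have hn : Cfsg.HasNormalPComplement 2 ↥C := by
      refine Fusion.hnpc_of_normalizer_le_centralizer (P.subtype hPC) fun c hc => ?_
      have hPS : ((P.subtype hPC : Sylow 2 ↥C) : Set ↥C) = ((P : Subgroup R).subgroupOf C : Set ↥C) := rfl
      rw [hPS] at hc ⊢
      refine Subgroup.mem_centralizer_iff.2 fun p hp => Subtype.ext (hfix a ha ha1 c ?_ ?_ p hp).symm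
      · refine Fusion.mem_normalizer_of_cj_le ?_
        rintro _ ⟨q, hq, rfl⟩
        exact (Subgroup.mem_normalizer_iff.1 hc ⟨q, hPC hq⟩).1 hq
      · exact Subgroup.mem_centralizer_singleton_iff.1 c.2
    obtain ⟨K, hK, hKc⟩ := Fusion.hnpc_exists_complement hn default
    haveI := hK
    refine solvable_ext K (StrongProd.solvable_of_odd (Nat.coprime_two_right.1
      (Fusion.coprime_card_of_isComplement' hKc))) ?_
    haveI : Group.IsNilpotent (↥C ⧸ K) := by
      obtain ⟨k, hk⟩ := IsPGroup.iff_card.1 (default : Sylow 2 ↥C).2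
      exact (IsPGroup.of_card (p := 2) (n := k) (by rw [← Subgroup.index_eq_card, hKc.symm.index_eq_card, hk])).isNilpotent
    infer_instance
  haveI hn := normal_core_of_closed hsq h8 hcl hsol hu hv hu1 hv1 hne
  refine solvable_ext ((P : Subgroup R) ⊔ O) ?_ ?_
  · haveI : (O.subgroupOf ((P : Subgroup R) ⊔ O)).Normal := inferInstance
    refine solvable_ext (O.subgroupOf ((P : Subgroup R) ⊔ O)) ?_ ?_
    · refine StrongProd.solvable_of_odd ?_
      rw [Nat.card_congr (Subgroup.subgroupOfEquivOfLe (le_sup_right : O ≤ (P : Subgroup R) ⊔ O)).toEquiv]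
      exact Char.card_oddCore_odd R
    · refine Group.isSolvable_of_comm ?_
      intro p q
      obtain ⟨⟨p, hp⟩, rfl⟩ := QuotientGroup.mk'_surjective _ p
      obtain ⟨⟨q, hq⟩, rfl⟩ := QuotientGroup.mk'_surjective _ q
      rw [← map_mul, ← map_mul]
      refine QuotientGroup.eq.2 ?_
      show (p * q)⁻¹ * (q * p) ∈ O
      rw [← QuotientGroup.eq_one_iff]
      obtain ⟨a, ha, o, ho, rfl⟩ := Subgroup.mem_sup_of_normal_right.1 hp
      obtain ⟨b, hb, o', ho', rfl⟩ := Subgroup.mem_sup_of_normal_right.1 hq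
      show QuotientGroup.mk' O _ = 1
      have e1 : QuotientGroup.mk' O o = 1 := (QuotientGroup.eq_one_iff o).2 ho
      have e2 : QuotientGroup.mk' O o' = 1 := (QuotientGroup.eq_one_iff o').2 ho'
      simp only [map_mul, map_inv, e1, e2, mul_one]
      rw [inv_mul_eq_one, ← map_mul, ← map_mul, StrongProd.commute_of_sq hsq ha hb]
  · refine Lie.CoreFun.solvable_of_odd ?_
    rw [← Subgroup.index_eq_card, ← Nat.not_even_iff_odd, even_iff_two_dvd]
    exact fun hd => P.not_dvd_index (hd.trans (Subgroup.index_dvd_of_le le_sup_left))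

end Cfsg.Agent.AEightClosed
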