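import Cfsg.Agent.Lib.Fusion.AEightClosed.Setting

/-!
A Sylow 2-subgroup over the four-group fixing a point, with commuting involutions above it and a normalising
element cycling them.
-/

set_option autoImplicit false
set_option linter.style.haveILetI false
set_option linter.unusedSectionVars false

namespace Cfsg.Agent.AEightClosed

open Cfsg.Agent.Fusion (SylIn)
open Cfsg.Agent.Lie.JankoSylow (two_of_sq)

universe u

/-- The four-group fixing the last point. -/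
abbrev four : List A5 := [1, x0, y0, x0 * y0]

theorem four_group : ∀ a ∈ four, ∀ b ∈ four, a * b ∈ four ∧ a * a = 1 ∧ a * b = b * a := by decide +kernel

theorem four_fix : ∀ v ∈ four, act v (dl 4) = dl 4 ∧ ∀ u : V5, Ev u → Ev (act v u) := by decide +kernel

theorem turn_facts : ∀ v ∈ four, g0 * v * x0 * (g0 * v)⁻¹ = x0 * y0 ∧
    g0 * v * (x0 * y0) * (g0 * v)⁻¹ = y0 ∧ g0 * v * y0 * (g0 * v)⁻¹ = x0 ∧
    act (g0 * v) (dl 4) = dl 4 ∧ ∀ u : V5, Ev u → Ev (act (g0 * v) u) := by decide +kernel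

theorem turn_norm : ∀ v ∈ four, g0 * v * g0⁻¹ ∈ four ∧ g0⁻¹ * v * g0 ∈ four := by decide +kernel

variable {G : Type u} [Group G] [Finite G]

/-- the four-group as a subgroup -/
def fourGrp : Subgroup A5 where
  carrier := {v | v ∈ four}
  one_mem' := by simp [four]
  mul_mem' := fun ha hb => (four_group _ ha _ hb).1
  inv_mem' := fun {a} ha => by
    rw [Set.mem_setOf_eq, inv_eq_of_mul_eq_one_right (four_group a ha a ha).2.1]
    exact ha

theorem fourGrp_index : fourGrp.index = 15 := by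
  classical
  have h := Subgroup.index_mul_card fourGrp
  have h4 : Nat.card fourGrp = 4 := by
    rw [show Nat.card fourGrp = Nat.card {v : A5 // v ∈ four.toFinset} from
      Nat.card_congr (Equiv.subtypeEquivRight fun v => by simp [fourGrp]), Nat.card_eq_fintype_card,
      Fintype.card_coe]
    decide +kernel
  have h60 : Nat.card A5 = 60 := by rw [Nat.card_eq_fintype_card]; decide +kernel
  rw [h4, h60] at h
  omega

/-- The data over the four-group. -/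
structure Frame (D : Data G) where
  /-- the Sylow subgroup -/
  Q : Sylow 2 G
  hQN : (Q : Subgroup G) ≤ D.N
  hAQ : D.A ≤ (Q : Subgroup G)
  proj : ∀ t : ↥D.N, (t : G) ∈ Q → D.ψ t ∈ four
  /-- first involution -/
  x : ↥D.N
  /-- second involution -/
  y : ↥D.N
  /-- turning element -/
  g : ↥D.N
  xQ : (x : G) ∈ Q
  yQ : (y : G) ∈ Q
  xx : x * x = 1
  yy : y * y = 1
  xy : x * y = y * x
  ψx : D.ψ x = x0
  ψy : D.ψ y = y0
  gQ : ∀ t ∈ Q, (g : G) * t * (g : G)⁻¹ ∈ Q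
  ψg : ∃ v ∈ four, D.ψ g = g0 * v

theorem ker_mem (D : Data G) {T : Subgroup G} (hT : IsPGroup 2 T) {t : ↥D.N} (ht : (t : G) ∈ T)
    (h : D.ψ t = 1) : (t : G) ∈ D.A := by
  obtain ⟨k, hk⟩ := hT ⟨_, ht⟩
  exact D.mem_A_two (k := k) h (Subtype.ext (by simpa using congrArg Subtype.val hk))

theorem frame_exists (D : Data G) : Nonempty (Frame D) := by
  haveI : Fact (Nat.Prime 2) := ⟨Nat.prime_two⟩
  set L : Subgroup G := (fourGrp.comap D.ψ).map D.N.subtype with hL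
  have hLN : L ≤ D.N := Subgroup.map_subtype_le _
  have hAL : D.A ≤ L := fun a ha => ⟨⟨a, D.A_le ha⟩,
    show D.ψ ⟨a, D.A_le ha⟩ ∈ fourGrp by rw [D.ψ_A ha]; exact one_mem _, rfl⟩
  have hmemL : ∀ t : ↥D.N, (t : G) ∈ L ↔ D.ψ t ∈ four := fun t =>
    ⟨fun ⟨s, hs, e⟩ => Subtype.ext e ▸ hs, fun h => ⟨t, h, rfl⟩⟩
  obtain ⟨T, hT, hAT⟩ := Fusion.exists_sylIn_ge (two_of_sq D.sq) hAL
  have hTN : SylIn 2 T D.N := by
    refine ⟨hT.le.trans hLN, hT.isPGroup, ?_⟩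
    rw [← Subgroup.relIndex_mul_relIndex T L D.N hT.le hLN]
    have h15 : L.relIndex D.N = 15 := by
      rw [Subgroup.relIndex, hL, Subgroup.subgroupOf,
        Subgroup.comap_map_eq_self_of_injective D.N.subtype_injective,
        Subgroup.index_comap_of_surjective _ D.surj, fourGrp_index]
    rw [h15]
    exact fun h => (Nat.Prime.dvd_mul Nat.prime_two).1 h |>.elim hT.not_dvd (by decide)
  obtain ⟨⟨Q, hQ⟩, -⟩ := D.syl_N hTN
  subst hQ
  have proj : ∀ t : ↥D.N, (t : G) ∈ (Q : Subgroup G) → D.ψ t ∈ four := fun t ht => (hmemL t).1 (hT.le ht)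
  -- involutions above the four group
  obtain ⟨z, hz, hψz⟩ := D.three.1
  have into : ∀ w : ↥D.N, w * w = 1 → D.ψ w ∈ four →
      ∃ t : ↥D.N, (t : G) ∈ (Q : Subgroup G) ∧ t * t = 1 ∧ D.ψ t = D.ψ w := by
    intro w hw hw4
    obtain ⟨l, hl, hle⟩ := hT.conj_le (Q := Subgroup.zpowers (w : G)) (two_of_sq fun v hv => by
      obtain ⟨i, rfl⟩ := Subgroup.mem_zpowers_iff.1 hv
      rw [← zpow_add, ← two_mul, zpow_mul, zpow_two, show (w : G) * w = 1 from congrArg Subtype.val hw, one_zpow])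
      (Subgroup.zpowers_le.2 ((hmemL w).2 hw4))
    let l' : ↥D.N := ⟨l, hLN hl⟩
    refine ⟨l' * w * l'⁻¹, hle (Fusion.conj_mem_cj (Subgroup.mem_zpowers _)),
      by rw [conj_mul, hw, mul_one, mul_inv_cancel], ?_⟩
    rw [map_mul, map_mul, map_inv, (four_group _ ((hmemL l').1 hl) _ hw4).2.2, mul_inv_cancel_right]
  obtain ⟨x, hxQ, hxx, hψx⟩ := into z hz (hψz ▸ by simp [four])
  rw [hψz] at hψx
  obtain ⟨h, hh⟩ := D.surj g0
  obtain ⟨y1, hy1Q, hy1, hψy1⟩ := into (h⁻¹ * z * h)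
    (by rw [show h⁻¹ * z * h * (h⁻¹ * z * h) = h⁻¹ * (z * z) * h by group, hz]; group)
    (by rw [map_mul, map_mul, map_inv, hh, hψz]; decide +kernel)
  have hy0 : D.ψ y1 = y0 := by rw [hψy1, map_mul, map_mul, map_inv, hh, hψz]; decide +kernel
  -- make them commute
  have hx' : D.ψ (x⁻¹ * (y1 * x * y1⁻¹)) = 1 := by
    simp only [map_mul, map_inv, hψx, hy0]; decide +kernel
  have hx'Q : ((y1 * x * y1⁻¹ : ↥D.N) : G) ∈ (Q : Subgroup G) :=
    mul_mem (mul_mem hy1Q hxQ) (inv_mem hy1Q)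
  have ha := ker_mem D Q.2 (t := x⁻¹ * (y1 * x * y1⁻¹)) (mul_mem (inv_mem hxQ) hx'Q) hx'
  obtain ⟨c, hc, hcx⟩ := D.coset_x0 hxx hψx ha (by
    rw [← Subgroup.coe_mul, ← Subgroup.coe_mul, mul_inv_cancel_left, conj_mul, hxx, mul_one, mul_inv_cancel]
    rfl)
  rw [← Subgroup.coe_mul, mul_inv_cancel_left] at hcx
  let c' : ↥D.N := ⟨c, D.A_le hc⟩
  set y2 := c'⁻¹ * y1 with hy2
  have hψc : D.ψ c' = 1 := D.ψ_A hc
  have hψy2 : D.ψ y2 = y0 := by rw [hy2, map_mul, map_inv, hψc, inv_one, one_mul, hy0]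
  have hy2Q : (y2 : G) ∈ (Q : Subgroup G) := mul_mem (inv_mem (hAT hc)) hy1Q
  have hxy2 : x * y2 = y2 * x := by
    have e : c' * x * c'⁻¹ = y1 * x * y1⁻¹ := Subtype.ext hcx
    have e2 : y2 * x * y2⁻¹ = x := by
      rw [hy2, show c'⁻¹ * y1 * x * (c'⁻¹ * y1)⁻¹ = c'⁻¹ * (y1 * x * y1⁻¹) * c' by group, ← e]; group
    exact (mul_inv_eq_iff_eq_mul.1 e2).symm
  have hsq := ker_mem D Q.2 (t := y2 * y2) (mul_mem hy2Q hy2Q) (by rw [map_mul, hψy2]; decide +kernel)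
  obtain ⟨u, hu⟩ := D.e_surj hsq
  have hfx : Eqv (act x0 u) u := by
    rw [← D.e_eq, ← hψx, ← D.e_conj, hu, ← Subgroup.coe_mul, ← Subgroup.coe_inv, ← Subgroup.coe_mul,
      show x * (y2 * y2) = y2 * y2 * x by rw [← mul_assoc, hxy2, mul_assoc, hxy2, ← mul_assoc],
      mul_inv_cancel_right]
  have hfy : Eqv (act y0 u) u := by
    rw [← D.e_eq, ← hψy2, ← D.e_conj, hu, ← Subgroup.coe_mul, ← Subgroup.coe_inv, ← Subgroup.coe_mul,
      show y2 * (y2 * y2) * y2⁻¹ = y2 * y2 by group]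
  obtain ⟨y, hyQ, hyy, hxy, hψy⟩ : ∃ y : ↥D.N, (y : G) ∈ (Q : Subgroup G) ∧ y * y = 1 ∧ x * y = y * x ∧
      D.ψ y = y0 := by
    rcases four_fixed u hfx hfy with h0 | h4
    · exact ⟨y2, hy2Q, Subtype.ext (hu.symm.trans (D.e_eq_one.2 h0)), hxy2, hψy2⟩
    let w : ↥D.N := ⟨D.e (dl 0 + dl 1), D.A_le (D.e_mem _)⟩
    refine ⟨w * y2, mul_mem (hAT (D.e_mem _)) hy2Q, Subtype.ext ?_, ?_, ?_⟩
    · show D.e _ * (y2 : G) * (D.e _ * (y2 : G)) = 1
      have h1 := D.e_conj y2 (dl 0 + dl 1)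
      rw [hψy2] at h1
      rw [show D.e (dl 0 + dl 1) * (y2 : G) * (D.e (dl 0 + dl 1) * y2) =
        D.e (dl 0 + dl 1) * ((y2 : G) * D.e (dl 0 + dl 1) * (y2 : G)⁻¹) * ((y2 : G) * y2) by group, h1,
        ← D.e_add, ← Subgroup.coe_mul, ← hu, D.e_eq.2 four_disp.1, D.e_eq.2 h4, D.sq _ (D.e_mem _)]
    · have h1 := D.e_conj x (dl 0 + dl 1)
      rw [hψx, D.e_eq.2 four_disp.2] at h1
      have h2 : x * w = w * x := Subtype.ext (mul_inv_eq_iff_eq_mul.1 h1)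
      rw [← mul_assoc, h2, mul_assoc, hxy2, ← mul_assoc]
    · rw [map_mul, hψy2, D.ψ_A (D.e_mem _), one_mul]
  -- the turning element
  have hnorm : (h : G) ∈ Subgroup.normalizer (L : Set G) := Fusion.mem_normalizer_of_cj_le (by
    rintro _ ⟨t, ⟨s, hs, rfl⟩, rfl⟩
    refine (hmemL (h * s * h⁻¹)).2 ?_
    rw [map_mul, map_mul, map_inv, hh]
    exact (turn_norm _ hs).1)
  obtain ⟨n, hn, hnQ⟩ := Fusion.frattini_conj (H := Subgroup.zpowers (h : G)) hT
    (Subgroup.zpowers_le.2 hnorm) (Subgroup.mem_zpowers _)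
  let n' : ↥D.N := ⟨n, hLN hn⟩
  exact ⟨{ Q := Q, hQN := hT.le.trans hLN, hAQ := hAT, proj := proj, x := x, y := y, g := n' * h
           xQ := hxQ, yQ := hyQ, xx := hxx, yy := hyy, xy := hxy, ψx := hψx, ψy := hψy
           gQ := fun t ht => (Subgroup.mem_normalizer_iff.1 hnQ t).1 ht
           ψg := ⟨g0⁻¹ * D.ψ n' * g0, (turn_norm _ ((hmemL n').1 hn)).2,
             by rw [map_mul, hh, mul_assoc g0⁻¹, mul_inv_cancel_left]⟩ }⟩

end Cfsg.Agent.AEightClosed
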