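import Cfsg.Agent.Lib.Fusion.AEightClosed.PointQuot

/-!
The elementary abelian subgroup is normal modulo the odd core.
-/

set_option autoImplicit false
set_option linter.style.haveILetI false
set_option linter.unusedSectionVars false

namespace Cfsg.Agent.AEightClosed

open Cfsg.Agent.Lie.JankoSylow (solvable_cent_of_pair)

universe u

theorem solvable_cent_conj {R : Type u} [Group R] {a : R} (g : R)
    (h : Group.IsSolvable ↥(Subgroup.centralizer ({a} : Set R))) :
    Group.IsSolvable ↥(Subgroup.centralizer ({g * a * g⁻¹} : Set R)) := by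
  haveI := h
  let f : ↥(Subgroup.centralizer ({a} : Set R)) →* ↥(Subgroup.centralizer ({g * a * g⁻¹} : Set R)) :=
    ((MulAut.conj g).toMonoidHom.comp (Subgroup.subtype _)).codRestrict _ fun c =>
      Subgroup.mem_centralizer_singleton_iff.2
        ((Commute.conj_iff g).2 (Subgroup.mem_centralizer_singleton_iff.1 c.2 : Commute (c : R) a)).eq
  refine Group.isSolvable_of_surjective (f := f) fun y => ⟨⟨g⁻¹ * y * g, ?_⟩, Subtype.ext ?_⟩
  · rw [Subgroup.mem_centralizer_singleton_iff]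
    have := (Commute.conj_iff g⁻¹).2 (Subgroup.mem_centralizer_singleton_iff.1 y.2 : Commute (y : R) (g * a * g⁻¹))
    simpa [mul_assoc] using this.eq
  · show g * (g⁻¹ * y * g) * g⁻¹ = y
    group

variable {G : Type u} [Group G] [Finite G]

theorem Data.main (D : Data G) : (D.A ⊔ Cfsg.oddCore G).Normal := by
  obtain ⟨F⟩ := frame_exists D
  have hS : Group.IsSolvable ↥(Subgroup.centralizer ({D.pS} : Set G)) := F.solvable_C
  obtain ⟨n, hn⟩ := D.conj_point 0
  have h0 : Group.IsSolvable ↥(Subgroup.centralizer ({D.e (dl 0)} : Set G)) := hn ▸ solvable_cent_conj (n : G) hS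
  have hpair : Group.IsSolvable ↥(Subgroup.centralizer ({D.pN} : Set G)) := by
    refine solvable_cent_of_pair D.sq D.closed (D.e_mem _) (D.e_mem (dl 0))
      (fun h => dl_ne_zero 0 (D.e_eq_one.1 h))
      (fun h => (by decide +kernel : ¬ Eqv (dl 0) (dl 0 + dl 1)) (D.e_eq.1 h)) (fun g hw hA => ?_) h0
    obtain ⟨u, hu⟩ := D.e_surj hA
    obtain ⟨i, hi⟩ := D.point_of_conj ((isConj_iff.2 ⟨(n : G), hn⟩).trans (isConj_iff.2 ⟨g, hu.symm⟩))
    have h2 : g * D.e (dl 1) * g⁻¹ = D.e (dl i + (dl 0 + dl 1)) := by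
      rw [D.e_add (dl i), ← D.e_eq.2 hi, hu]
      show _ = g * D.e (dl 0) * g⁻¹ * D.pN
      conv_rhs => rw [← hw]
      rw [conj_mul]
      show _ = g * (D.e (dl 0) * D.e (dl 0 + dl 1)) * g⁻¹
      rw [← D.e_add, D.e_eq.2 (by decide +kernel : Eqv (dl 0 + (dl 0 + dl 1)) (dl 1))]
    obtain ⟨m, hm⟩ := D.conj_point 1
    obtain ⟨j, hj⟩ := D.point_of_conj ((isConj_iff.2 ⟨(m : G), hm⟩).trans (isConj_iff.2 ⟨g, h2⟩))
    rcases pair_point i j hj with rfl | rfl
    · exact Or.inl (hu.symm.trans (D.e_eq.2 hi))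
    · refine Or.inr (hu.symm.trans ((D.e_eq.2 hi).trans ?_))
      rw [Data.pN, ← D.e_add]
      exact D.e_eq.2 (by decide +kernel)
  refine normal_core_of_closed D.sq (by rw [D.h16]; norm_num) D.closed (fun a ha ha1 => ?_)
    (u := D.pS) (v := D.pN) (D.e_mem _) (D.e_mem _)
    (fun h => dl_ne_zero 4 (D.e_eq_one.1 h))
    (fun h => (by decide +kernel : ¬ Eqv (dl 0 + dl 1) 0) (D.e_eq_one.1 h)) D.three.2.1
  obtain ⟨m, rfl | rfl⟩ := D.two_types ha ha1
  · exact solvable_cent_conj (m : G) hS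
  · exact solvable_cent_conj (m : G) hpair

end Cfsg.Agent.AEightClosed
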