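import Cfsg.Agent.Lib.Fusion.AEightClosed.Perm
import Mathlib.GroupTheory.Perm.Cycle.Type
import Mathlib.GroupTheory.Index

/-!
A faithful, intransitive action of the alternating group of degree five on an elementary abelian group of
order sixteen is the permutation module modulo constants.
-/

set_option autoImplicit false
set_option linter.unusedSectionVars false

namespace Cfsg.Agent.AEightClosed

open Equiv

variable {A : Type*} [CommGroup A] [Finite A] {ρ : A5 →* MulAut A}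
  (hρ : Function.Injective ρ) (h2 : ∀ a : A, a * a = 1) (h16 : Nat.card A = 16)

theorem mul_eq_one_iff_of_sq (h2 : ∀ a : A, a * a = 1) {a b : A} : a * b = 1 ↔ a = b :=
  ⟨fun h => mul_left_cancel ((h2 a).trans h.symm), fun h => h ▸ h2 a⟩

/-- the fixed points of one element -/
def fixd (ρ : A5 →* MulAut A) (z : A5) : Subgroup A := (ρ z).toMonoidHom.eqLocus (MonoidHom.id A)

theorem mem_fixd {z : A5} {a : A} : a ∈ fixd ρ z ↔ ρ z a = a := Iff.rfl

include hρ h16 in
theorem fixed_five {σ : A5} (h5 : σ ^ 5 = 1) (hσ : σ ≠ 1) {a : A} (ha : ρ σ a = a) : a = 1 := by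
  classical
  letI := Fintype.ofFinite A
  haveI : Fact (Nat.Prime 5) := ⟨by norm_num⟩
  let τ : Equiv.Perm A := MulAut.toPerm A (ρ σ)
  have hτ : τ ^ 5 ^ 1 = 1 := by rw [pow_one]; simp only [τ]; rw [← map_pow, ← map_pow, h5, map_one, map_one]
  have hm := Equiv.Perm.card_compl_support_modEq hτ
  have hc : τ.supportᶜ.card = Nat.card (fixd ρ σ) := by
    rw [Nat.card_eq_fintype_card]
    refine Finset.card_bij (fun x hx => (⟨x, ?_⟩ : fixd ρ σ)) (fun _ _ => Finset.mem_univ _) ?_ ?_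
    · rw [Finset.mem_compl, Equiv.Perm.notMem_support] at hx
      exact hx
    · exact fun x _ y _ e => congrArg Subtype.val e
    · intro x _
      exact ⟨x, by rw [Finset.mem_compl, Equiv.Perm.notMem_support]; exact x.2, rfl⟩
  rw [hc, ← Nat.card_eq_fintype_card, h16] at hm
  have hd : Nat.card (fixd ρ σ) ∣ 16 := h16 ▸ Subgroup.card_subgroup_dvd_card _
  have hle := Nat.le_of_dvd (by norm_num) hd
  have h116 : Nat.card (fixd ρ σ) = 1 ∨ Nat.card (fixd ρ σ) = 16 :=
    (by decide : ∀ c < 17, c ∣ 16 → c % 5 = 16 % 5 → c = 1 ∨ c = 16) _ (by omega) hd hm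
  rcases h116 with h | h
  · exact Subgroup.mem_bot.1 (Subgroup.card_eq_one.1 h ▸ (show a ∈ fixd ρ σ from ha))
  · exfalso
    have htop : fixd ρ σ = ⊤ := Subgroup.eq_top_of_card_eq _ (h.trans h16.symm)
    refine hσ (hρ (MulEquiv.ext fun x => ?_))
    rw [map_one]
    exact (htop ▸ Subgroup.mem_top x : x ∈ fixd ρ σ)

/-- `a ↦ a * z a` -/
def nm (ρ : A5 →* MulAut A) (z : A5) : A →* A where
  toFun a := a * ρ z a
  map_one' := by simp
  map_mul' a b := by rw [map_mul]; exact mul_mul_mul_comm a b _ _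

include h2 h16 in
theorem fixd_invol {z : A5} (hz : z * z = 1) : (nm ρ z).range ≤ fixd ρ z ∧
    Nat.card (fixd ρ z) * Nat.card (nm ρ z).range = 16 := by
  refine ⟨?_, ?_⟩
  · rintro _ ⟨a, rfl⟩
    show ρ z (a * ρ z a) = a * ρ z a
    rw [map_mul, ← MulAut.mul_apply, ← map_mul ρ, hz, map_one, MulAut.one_apply, mul_comm]
  · have hk : (nm ρ z).ker = fixd ρ z := by
      ext a
      exact (mul_eq_one_iff_of_sq h2).trans eq_comm
    rw [← hk, ← Subgroup.index_ker, Subgroup.card_mul_index, h16]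

include hρ h2 h16 in
theorem fix_x0 : Nat.card (fixd ρ x0) = 4 ∧ (nm ρ x0).range = fixd ρ x0 := by
  obtain ⟨z, hz, -, hf, hf1⟩ := partner
  obtain ⟨hxle, hx⟩ := fixd_invol (ρ := ρ) h2 h16 gens_facts.1
  obtain ⟨hzle, hzc⟩ := fixd_invol (ρ := ρ) h2 h16 hz
  have hinj : Function.Injective (fun p : fixd ρ x0 × fixd ρ z => (p.1 : A) * p.2) := by
    rintro ⟨a, b⟩ ⟨a', b'⟩ (e : (a : A) * b = a' * b')
    have e1 : (a' : A)⁻¹ * a = b' * (b : A)⁻¹ := by
      rw [inv_mul_eq_iff_eq_mul, ← mul_assoc, eq_mul_inv_iff_mul_eq, e]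
    have h1 : (a' : A)⁻¹ * a = 1 := fixed_five hρ h16 hf hf1 (by
      rw [map_mul ρ, MulAut.mul_apply]
      have hz' : ρ z ((a' : A)⁻¹ * a) = (a' : A)⁻¹ * a :=
        e1 ▸ (mul_mem b'.2 (inv_mem b.2) : _ ∈ fixd ρ z)
      rw [hz']
      exact (mul_mem (inv_mem a'.2) a.2 : _ ∈ fixd ρ x0))
    exact Prod.ext (Subtype.ext (inv_mul_eq_one.1 h1).symm)
      (Subtype.ext (mul_inv_eq_one.1 (e1.symm.trans h1)).symm)
  have hle := Nat.card_le_card_of_injective _ hinj
  rw [Nat.card_prod, h16] at hle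
  have h1 := Subgroup.card_le_of_le hxle
  have h3 := Subgroup.card_le_of_le hzle
  have hfour : Nat.card (fixd ρ x0) = 4 := by
    have hx4 : 4 ≤ Nat.card (fixd ρ x0) := by nlinarith
    have hz4 : 4 ≤ Nat.card (fixd ρ z) := by nlinarith
    nlinarith
  refine ⟨hfour, Subgroup.eq_of_le_of_card_ge hxle ?_⟩
  rw [hfour] at hx ⊢
  omega

include hρ h2 h16 in
theorem exists_point (htr : ∃ a b : A, a ≠ 1 ∧ b ≠ 1 ∧ ∀ σ, ρ σ a ≠ b) :
    ∃ v : A, v ≠ 1 ∧ ∀ h : A5, ((ρ h v = v) ↔ (h : Perm (Fin 5)) 4 = 4) := by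
  classical
  letI := Fintype.ofFinite A
  obtain ⟨hx2, hy2, hxy, -⟩ := gens_facts
  -- a fixed point of the four group
  obtain ⟨hfour, -⟩ := fix_x0 hρ h2 h16
  have hne : fixd ρ x0 ≠ ⊥ := fun e => by rw [e, Subgroup.card_bot] at hfour; omega
  obtain ⟨a, ha, ha1⟩ : ∃ a ∈ fixd ρ x0, a ≠ 1 := by
    rcases (Subgroup.nontrivial_iff_exists_ne_one _).1 ((Subgroup.nontrivial_iff_ne_bot _).2 hne) with ⟨a, ha, h⟩
    exact ⟨a, ha, h⟩
  obtain ⟨v, hv1, hvx, hvy⟩ : ∃ v : A, v ≠ 1 ∧ ρ x0 v = v ∧ ρ y0 v = v := by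
    by_cases hy : ρ y0 a = a
    · exact ⟨a, ha1, ha, hy⟩
    refine ⟨a * ρ y0 a, fun e => hy ((mul_eq_one_iff_of_sq h2).1 e).symm, ?_,
      (fixd_invol (ρ := ρ) h2 h16 hy2).1 ⟨a, rfl⟩⟩
    rw [map_mul, mem_fixd.1 ha, ← MulAut.mul_apply, ← map_mul ρ, hxy, map_mul, MulAut.mul_apply, mem_fixd.1 ha]
  have hV : ∀ w ∈ ([1, x0, y0, x0 * y0] : List A5), ρ w v = v := by
    intro w hw
    simp only [List.mem_cons, List.mem_singleton, List.not_mem_nil, or_false] at hw
    rcases hw with rfl | rfl | rfl | rfl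
    · simp
    · exact hvx
    · exact hvy
    · rw [map_mul, MulAut.mul_apply, hvy, hvx]
  have hstab : ∀ h : A5, ρ h v = v → (h : Perm (Fin 5)) 4 = 4 := by
    intro h hh
    by_contra h4
    rcases moved h h4 with ⟨e1, e2⟩ | ⟨e1, e2⟩ | ⟨e1, e2⟩ | ⟨e1, e2⟩ <;>
      refine hv1 (fixed_five hρ h16 e1 e2 ?_) <;> rw [map_mul, MulAut.mul_apply, hV _ (by simp), hh]
  by_cases hg : ρ g0 v = v
  · refine ⟨v, hv1, fun h => ⟨hstab h, fun h4 => ?_⟩⟩
    obtain ⟨w, hw, e⟩ := fix_four h h4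
    rcases e with e | e | e <;> rw [e] <;> simp only [map_mul, MulAut.mul_apply, hV w hw, hg]
  exfalso
  have hg2 : ρ (g0 * g0) v ≠ v := fun e => hg (by
    have h3 : g0 * (g0 * g0) = 1 := by decide +kernel
    conv_lhs => rw [← e]
    rw [← MulAut.mul_apply, ← map_mul ρ, h3, map_one, MulAut.one_apply])
  have hfib : ∀ b ∈ Finset.univ.image fun σ : A5 => ρ σ v,
      ((Finset.univ : Finset A5).filter fun σ => ρ σ v = b).card ≤ 4 := by
    intro b hb
    obtain ⟨s, -, rfl⟩ := Finset.mem_image.1 hb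
    refine (Finset.card_le_card (t := ([1, x0, y0, x0 * y0] : List A5).toFinset.image (s * ·)) ?_).trans
      (Finset.card_image_le.trans (List.toFinset_card_le _))
    intro σ hσ
    have e : ρ (s⁻¹ * σ) v = v := by
      rw [map_mul, MulAut.mul_apply, (Finset.mem_filter.1 hσ).2, ← MulAut.mul_apply, ← map_mul ρ,
        inv_mul_cancel, map_one, MulAut.one_apply]
    obtain ⟨w, hw, hc⟩ := fix_four _ (hstab _ e)
    have hc' : s⁻¹ * σ = w := by
      rcases hc with hc | hc | hc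
      · exact hc
      · exfalso
        rw [hc, map_mul, MulAut.mul_apply, hV w hw] at e
        exact hg e
      · exfalso
        rw [hc, map_mul, MulAut.mul_apply, hV w hw] at e
        exact hg2 e
    exact Finset.mem_image.2 ⟨w, List.mem_toFinset.2 hw, by rw [← hc', mul_inv_cancel_left]⟩
  have h15 := Finset.card_le_mul_card_image (Finset.univ : Finset A5) 4 hfib
  have h60 : (Finset.univ : Finset A5).card = 60 := by decide +kernel
  have hsub : (Finset.univ.image fun σ : A5 => ρ σ v) ⊆ (Finset.univ : Finset A).erase 1 := fun b hb => by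
    obtain ⟨s, -, rfl⟩ := Finset.mem_image.1 hb
    exact Finset.mem_erase.2 ⟨fun e => hv1 ((ρ s).map_eq_one_iff.1 e), Finset.mem_univ _⟩
  have hall := Finset.eq_of_subset_of_card_le hsub (by
    rw [Finset.card_erase_of_mem (Finset.mem_univ _), Finset.card_univ, ← Nat.card_eq_fintype_card, h16]
    omega)
  obtain ⟨p, q, hp, hq, hpq⟩ := htr
  obtain ⟨s, -, hs⟩ := Finset.mem_image.1 (hall ▸ Finset.mem_erase.2 ⟨hp, Finset.mem_univ p⟩ :
    p ∈ Finset.univ.image fun σ : A5 => ρ σ v)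
  obtain ⟨t, -, ht⟩ := Finset.mem_image.1 (hall ▸ Finset.mem_erase.2 ⟨hq, Finset.mem_univ q⟩ :
    q ∈ Finset.univ.image fun σ : A5 => ρ σ v)
  refine hpq (t * s⁻¹) ?_
  rw [← hs, ← MulAut.mul_apply, ← map_mul ρ, inv_mul_cancel_right, ht]

/-- A coordinate map from the permutation module. -/
structure Coord (ρ : A5 →* MulAut A) (E : V5 → A) : Prop where
  add : ∀ u v, E (u + v) = E u * E v
  equiv : ∀ σ u, ρ σ (E u) = E (act σ u)
  surj : ∀ a, ∃ u, E u = a
  eq_iff : ∀ u v, E u = E v ↔ Eqv u v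

include hρ h2 h16 in
theorem exists_coord (htr : ∃ a b : A, a ≠ 1 ∧ b ≠ 1 ∧ ∀ σ, ρ σ a ≠ b) : ∃ E : V5 → A, Coord ρ E := by
  classical
  letI := Fintype.ofFinite A
  obtain ⟨v, hv1, hst⟩ := exists_point hρ h2 h16 htr
  choose t ht using reach
  let e : Fin 5 → A := fun i => ρ (t i) v
  have hcomp : ∀ (σ τ : A5) (a : A), ρ σ (ρ τ a) = ρ (σ * τ) a := fun σ τ a => by
    rw [map_mul, MulAut.mul_apply]
  have he : ∀ σ i, ρ σ (e i) = e ((σ : Perm (Fin 5)) i) := fun σ i => by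
    set j := (σ : Perm (Fin 5)) i
    have h1 : (((t j)⁻¹ * (σ * t i) : A5) : Perm (Fin 5)) 4 = 4 := by
      simp only [Subgroup.coe_mul, Subgroup.coe_inv, Perm.mul_apply, ht, Perm.inv_eq_iff_eq]
      rfl
    have h2' := (hst _).2 h1
    show ρ σ (ρ (t i) v) = ρ (t j) v
    conv_rhs => rw [← h2']
    rw [hcomp, hcomp, mul_inv_cancel_left]
  have einj : Function.Injective e := fun i j h => by
    have h1 : ρ ((t j)⁻¹ * t i) v = v := by
      rw [← hcomp, show ρ (t i) v = ρ (t j) v from h, hcomp, inv_mul_cancel, map_one, MulAut.one_apply]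
    have h2' := (hst _).1 h1
    simpa [ht, Perm.inv_eq_iff_eq, Equiv.symm_apply_eq] using h2'
  have e1 : ∀ i, e i ≠ 1 := fun i h => hv1 ((ρ (t i)).map_eq_one_iff.1 h)
  let E : V5 → A := fun u => ∏ i, e i ^ (u i).val
  have hadd : ∀ u w, E (u + w) = E u * E w := fun u w => by
    simp only [E, ← Finset.prod_mul_distrib]
    refine Finset.prod_congr rfl fun i _ => ?_
    rw [← pow_add]
    refine pow_eq_pow_mod _ ((pow_two _).trans (h2 _)) |>.trans ?_
    conv_rhs => rw [pow_eq_pow_mod _ ((pow_two _).trans (h2 _))]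
    rw [Pi.add_apply, ZMod.val_add, Nat.mod_mod]
  have hequiv : ∀ σ u, ρ σ (E u) = E (act σ u) := fun σ u => by
    simp only [E, map_prod, map_pow, he]
    refine Eq.trans ?_ (Equiv.prod_comp (σ : Perm (Fin 5)) fun j => e j ^ (act σ u j).val)
    exact Finset.prod_congr rfl fun i _ => by simp [act]
  have hdl : ∀ i, E (dl i) = e i := fun i => by
    simp only [E]
    rw [Finset.prod_eq_single i]
    · simp [dl, ZMod.val_one]
    · intro j _ hj
      simp [dl, hj]
    · simp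
  have hzero : E 0 = 1 := by simp [E]
  have hone : E 1 = 1 := by
    obtain ⟨z, -, -, hf, hf1⟩ := partner
    exact fixed_five hρ h16 hf hf1 (by rw [hequiv]; rfl)
  have hshift : ∀ u w, Eqv u w → E u = E w := by
    rintro u w (rfl | rfl)
    · rfl
    · rw [hadd, hone, mul_one]
  have hker : ∀ u, E u = 1 → Eqv u 0 := fun u h => by
    rcases classify u with h0 | ⟨i, hi⟩ | ⟨i, j, hij, hi⟩
    · exact h0
    · exact absurd ((hdl i).symm.trans ((hshift _ _ hi).symm.trans h)) (e1 i)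
    · have h1 := (hshift _ _ hi).symm.trans h
      rw [hadd, hdl, hdl, mul_eq_one_iff_of_sq h2] at h1
      exact absurd (einj h1) hij
  have heq : ∀ u w, E u = E w → Eqv u w := fun u w h => by
    have h1 : E (u + w) = 1 := by rw [hadd, h, h2]
    exact (by decide +kernel : ∀ u w : V5, Eqv (u + w) 0 → Eqv u w) u w (hker _ h1)
  let ι : (Fin 4 → ZMod 2) → V5 := fun w => Fin.snoc w 0
  have hinj : Function.Injective (fun w => E (ι w)) := fun w w' h =>
    (by decide +kernel : ∀ w w' : Fin 4 → ZMod 2, Eqv (Fin.snoc w 0 : V5) (Fin.snoc w' 0) → w = w') _ _ (heq _ _ h)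
  have hbij := (Fintype.bijective_iff_injective_and_card _).2 ⟨hinj, by
    rw [← Nat.card_eq_fintype_card (α := A), h16]; rfl⟩
  exact ⟨E, hadd, hequiv, fun a => (hbij.2 a).imp' ι fun _ h => h, fun u w => ⟨heq u w, hshift u w⟩⟩

end Cfsg.Agent.AEightClosed
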