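import Mathlib.GroupTheory.SpecificGroups.Alternating
import Mathlib.Data.ZMod.Basic
import Mathlib.Tactic

/-!
Finite facts on the alternating group of degree five and its permutation module over the field of two
elements.
-/

set_option autoImplicit false

namespace Cfsg.Agent.AEightClosed

open Equiv

/-- The alternating group of degree five. -/
abbrev A5 : Type := ↥(alternatingGroup (Fin 5))

/-- The permutation module. -/
abbrev V5 : Type := Fin 5 → ZMod 2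

/-- `(01)(23)` -/
def x0 : A5 := ⟨swap 0 1 * swap 2 3, Equiv.Perm.mem_alternatingGroup.2 (by decide +kernel)⟩
/-- `(02)(13)` -/
def y0 : A5 := ⟨swap 0 2 * swap 1 3, Equiv.Perm.mem_alternatingGroup.2 (by decide +kernel)⟩
/-- `(012)` -/
def g0 : A5 := ⟨swap 0 1 * swap 1 2, Equiv.Perm.mem_alternatingGroup.2 (by decide +kernel)⟩

/-- The permutation action. -/
def act (σ : A5) (u : V5) : V5 := fun i => u ((σ : Perm (Fin 5))⁻¹ i)

/-- A basis vector. -/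
def dl (i : Fin 5) : V5 := Pi.single i 1

/-- Equality modulo the constant vectors. -/
def Eqv (u v : V5) : Prop := u = v ∨ u = v + 1

instance (u v : V5) : Decidable (Eqv u v) := inferInstanceAs (Decidable (_ ∨ _))

/-- Even weight on the first four points. -/
def Ev (u : V5) : Prop := u 0 + u 1 + u 2 + u 3 = 0

instance (u : V5) : Decidable (Ev u) := inferInstanceAs (Decidable (_ = _))

theorem gens_facts : x0 * x0 = 1 ∧ y0 * y0 = 1 ∧ x0 * y0 = y0 * x0 ∧ x0 ≠ 1 ∧ y0 ≠ 1 ∧ x0 * y0 ≠ 1 ∧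
    g0 * x0 * g0⁻¹ = x0 * y0 ∧ g0 * (x0 * y0) * g0⁻¹ = y0 ∧ g0 * y0 * g0⁻¹ = x0 := by decide +kernel

theorem gens_four : (x0 : Perm (Fin 5)) 4 = 4 ∧ (y0 : Perm (Fin 5)) 4 = 4 ∧ (g0 : Perm (Fin 5)) 4 = 4 := by
  decide +kernel

theorem partner : ∃ z : A5, z * z = 1 ∧ z ≠ 1 ∧ (x0 * z) ^ 5 = 1 ∧ x0 * z ≠ 1 := by decide +kernel

set_option synthInstance.maxSize 1024 in
theorem invol_conj : ∀ z : A5, z * z = 1 → z ≠ 1 → ∃ s : A5, s * x0 * s⁻¹ = z := by decide +kernel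

set_option synthInstance.maxSize 1024 in
theorem moved : ∀ h : A5, (h : Perm (Fin 5)) 4 ≠ 4 →
    ((h * 1) ^ 5 = 1 ∧ h * 1 ≠ 1) ∨ ((h * x0) ^ 5 = 1 ∧ h * x0 ≠ 1) ∨
      ((h * y0) ^ 5 = 1 ∧ h * y0 ≠ 1) ∨ ((h * (x0 * y0)) ^ 5 = 1 ∧ h * (x0 * y0) ≠ 1) := by decide +kernel

set_option synthInstance.maxSize 1024 in
theorem fix_four : ∀ h : A5, (h : Perm (Fin 5)) 4 = 4 →
    ∃ v ∈ ([1, x0, y0, x0 * y0] : List A5), h = v ∨ h = g0 * v ∨ h = g0 * g0 * v := by decide +kernel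

set_option synthInstance.maxSize 1024 in
theorem reach : ∀ i : Fin 5, ∃ s : A5, (s : Perm (Fin 5)) 4 = i := by decide +kernel

set_option synthInstance.maxSize 1024 in
theorem reach_pair : ∀ i j : Fin 5, i ≠ j →
    ∃ s : A5, act s (dl 0 + dl 1) = dl i + dl j := by decide +kernel

theorem four_mem : ∀ v ∈ ([1, x0, y0, x0 * y0] : List A5), (v : Perm (Fin 5)) 4 = 4 := by decide +kernel

theorem classify : ∀ u : V5, Eqv u 0 ∨ (∃ i, Eqv u (dl i)) ∨ ∃ i j, i ≠ j ∧ Eqv u (dl i + dl j) := by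
  decide +kernel

theorem dl_ne : ∀ i j : Fin 5, i ≠ j →
    ¬ Eqv (dl i) (dl j) ∧ ¬ Eqv (dl i) 0 ∧ ¬ Eqv (dl i + dl j) 0 := by decide +kernel

theorem dl_ne_zero : ∀ i : Fin 5, ¬ Eqv (dl i) 0 := by decide +kernel

theorem act_x0_fix : ∀ u : V5, Eqv (act x0 u) u → act x0 u = u := by decide +kernel

theorem four_fixed : ∀ u : V5, Eqv (act x0 u) u → Eqv (act y0 u) u → Eqv u 0 ∨ Eqv u (dl 4) := by
  decide +kernel

theorem ev_invariant : ∀ u : V5, (Ev (u + 1) ↔ Ev u) := by decide +kernel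

theorem ev_fixed : ∀ u : V5, (Eqv (act x0 u) u ∨ Eqv (act y0 u) u ∨ Eqv (act (x0 * y0) u) u) → Ev u := by
  decide +kernel

theorem ev_facts : Ev 0 ∧ Ev (dl 4) ∧ Ev (dl 0 + dl 1) ∧ ¬ Ev (dl 0) ∧
    (∀ u v : V5, Ev u → Ev v → Ev (u + v)) ∧
    ∀ u : V5, Ev u → Ev (act x0 u) ∧ Ev (act y0 u) ∧ Ev (act g0 u) := by decide +kernel

theorem ev_step : ∀ u : V5, ¬ Ev u → Ev (u + dl 0) := by decide +kernel

theorem ev_move : ∀ u : V5, Ev u → ∀ r ∈ ([1, x0, y0, x0 * y0] : List A5),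
    Eqv (u + act r u) 0 ∨ Eqv (u + act r u) (dl 4) := by decide +kernel

theorem ev_point : ∀ i : Fin 5, Ev (dl i) → i = 4 := by decide +kernel

theorem point_shift : ∀ i : Fin 5, i ≠ 4 → Ev (dl 0 + dl i) := by decide +kernel

theorem pair_point : ∀ i j : Fin 5, Eqv (dl i + (dl 0 + dl 1)) (dl j) → i = 0 ∨ i = 1 := by decide +kernel

theorem x0_moves : act x0 (dl 0) = dl 1 ∧ act y0 (dl 0) = dl 2 ∧ act (x0 * y0) (dl 0) = dl 3 := by
  decide +kernel

theorem four_disp : Eqv (dl 0 + dl 1 + act y0 (dl 0 + dl 1)) (dl 4) ∧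
    Eqv (act x0 (dl 0 + dl 1)) (dl 0 + dl 1) := by decide +kernel

theorem x0_range : ∀ u : V5, Eqv (act x0 u) u → ∃ v : V5, Eqv (v + act x0 v) u := by decide +kernel

theorem four_points : Eqv (dl 0 + dl 1 + dl 2 + dl 3) (dl 4) := by decide +kernel

end Cfsg.Agent.AEightClosed
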