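import Cfsg.Agent.Lib.Fusion.AEightClosed.FourPart
import Cfsg.Agent.S0111

/-!
The centraliser of the fixed point has a subgroup of index two missing the other points.
-/

set_option autoImplicit false
set_option linter.style.haveILetI false
set_option linter.unusedSectionVars false

namespace Cfsg.Agent.AEightClosed

universe u

theorem ev_eqv : ∀ u v : V5, Eqv u v → (Ev u ↔ Ev v) := by decide +kernel

theorem ev_add_iff : ∀ u v : V5, Ev (u + v) ↔ (Ev u ↔ Ev v) := by decide +kernel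

theorem ev_dl : ∀ i : Fin 5, Ev (dl i) ↔ i = 4 := by decide +kernel

theorem spread : ∀ u : V5, u = (if u 0 = 1 then dl 0 else 0) + (if u 1 = 1 then dl 1 else 0) +
    (if u 2 = 1 then dl 2 else 0) + (if u 3 = 1 then dl 3 else 0) + (if u 4 = 1 then dl 4 else 0) := by
  decide +kernel

theorem dl_four_ne : ¬ Eqv (dl 0) (dl 4) ∧ ¬ Eqv (dl 4) 0 := by decide +kernel

variable {G : Type u} [Group G] [Finite G] {D : Data G}

namespace Frame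

variable (F : Frame D)

/-- first involution in the group -/
abbrev xG : G := (F.x : G)
/-- second involution in the group -/
abbrev yG : G := (F.y : G)

theorem four_rules : F.xG * F.xG = 1 ∧ F.yG * F.yG = 1 ∧ F.yG * F.xG = F.xG * F.yG ∧
    (∀ t, F.xG * (F.xG * t) = t) ∧ (∀ t, F.yG * (F.yG * t) = t) ∧
    ∀ t, F.yG * (F.xG * t) = F.xG * (F.yG * t) := by
  have hx : F.xG * F.xG = 1 := congrArg Subtype.val F.xx
  have hy : F.yG * F.yG = 1 := congrArg Subtype.val F.yy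
  have hc : F.yG * F.xG = F.xG * F.yG := (congrArg Subtype.val F.xy).symm
  exact ⟨hx, hy, hc, fun t => by rw [← mul_assoc, hx, one_mul], fun t => by rw [← mul_assoc, hy, one_mul],
    fun t => by rw [← mul_assoc, hc, mul_assoc]⟩

/-- the complement over the four-group -/
def R : Subgroup G where
  carrier := {t | t = 1 ∨ t = F.xG ∨ t = F.yG ∨ t = F.xG * F.yG}
  one_mem' := Or.inl rfl
  mul_mem' := by
    obtain ⟨hx, hy, hc, hx', hy', hc'⟩ := F.four_rules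
    rintro a b (rfl | rfl | rfl | rfl) (rfl | rfl | rfl | rfl) <;>
      simp [mul_assoc, hx, hy, hc, hx', hy', hc']
  inv_mem' := by
    obtain ⟨hx, hy, hc, -⟩ := F.four_rules
    rintro a (rfl | rfl | rfl | rfl)
    · exact Or.inl inv_one
    · exact Or.inr (Or.inl (inv_eq_of_mul_eq_one_right hx))
    · exact Or.inr (Or.inr (Or.inl (inv_eq_of_mul_eq_one_right hy)))
    · refine Or.inr (Or.inr (Or.inr ?_))
      rw [mul_inv_rev, inv_eq_of_mul_eq_one_right hx, inv_eq_of_mul_eq_one_right hy, hc]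

theorem R_cases {t : G} (h : t ∈ F.R) :
    ∃ r : ↥D.N, (r : G) = t ∧ (r = 1 ∨ r = F.x ∨ r = F.y ∨ r = F.x * F.y) := by
  rcases h with rfl | rfl | rfl | rfl
  exacts [⟨1, rfl, Or.inl rfl⟩, ⟨F.x, rfl, Or.inr (Or.inl rfl)⟩, ⟨F.y, rfl, Or.inr (Or.inr (Or.inl rfl))⟩,
    ⟨_, rfl, Or.inr (Or.inr (Or.inr rfl))⟩]

theorem R_le_Q : F.R ≤ (F.Q : Subgroup G) := by
  rintro t (rfl | rfl | rfl | rfl)
  exacts [one_mem _, F.xQ, F.yQ, mul_mem F.xQ F.yQ]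

theorem R_lift : ∀ v ∈ four, ∃ r : ↥D.N, (r : G) ∈ F.R ∧ r * r = 1 ∧ D.ψ r = v := by
  intro v hv
  simp only [List.mem_cons, List.not_mem_nil, or_false] at hv
  rcases hv with rfl | rfl | rfl | rfl
  · exact ⟨1, one_mem _, one_mul 1, map_one _⟩
  · exact ⟨F.x, Or.inr (Or.inl rfl), F.xx, F.ψx⟩
  · exact ⟨F.y, Or.inr (Or.inr (Or.inl rfl)), F.yy, F.ψy⟩
  · refine ⟨F.x * F.y, Or.inr (Or.inr (Or.inr rfl)), ?_, by rw [map_mul, F.ψx, F.ψy]⟩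
    rw [show F.x * F.y * (F.x * F.y) = F.x * (F.y * F.x) * F.y by group, ← F.xy, ← mul_assoc, F.xx, one_mul, F.yy]

theorem R_ker {r : ↥D.N} (h : (r : G) ∈ F.R) (h1 : D.ψ r = 1) : r = 1 := by
  obtain ⟨r', e, h'⟩ := F.R_cases h
  cases Subtype.ext e
  obtain ⟨-, -, -, hx, hy, hxy, -⟩ := gens_facts
  rcases h' with rfl | rfl | rfl | rfl
  · rfl
  · exact absurd (F.ψx.symm.trans h1) hx
  · exact absurd (F.ψy.symm.trans h1) hy
  · rw [map_mul, F.ψx, F.ψy] at h1; exact absurd h1 hxy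

/-- the even part of `A` -/
def W (_F : Frame D) : Subgroup G where
  carrier := {a | ∃ u, Ev u ∧ D.e u = a}
  one_mem' := ⟨0, ev_facts.1, D.e_zero⟩
  mul_mem' := by
    rintro _ _ ⟨u, hu, rfl⟩ ⟨v, hv, rfl⟩
    exact ⟨u + v, ev_facts.2.2.2.2.1 u v hu hv, D.e_add u v⟩
  inv_mem' := by
    rintro _ ⟨u, hu, rfl⟩
    exact ⟨u, hu, (inv_eq_of_mul_eq_one_right (D.sq _ (D.e_mem u))).symm⟩

theorem e_mem_W {u : V5} : D.e u ∈ F.W ↔ Ev u :=
  ⟨fun ⟨v, hv, h⟩ => (ev_eqv v u (D.e_eq.1 h)).1 hv, fun h => ⟨u, h, rfl⟩⟩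

theorem W_le : F.W ≤ D.A := fun _ ⟨u, _, h⟩ => h ▸ D.e_mem u

theorem pS_mem : D.pS ∈ F.W := F.e_mem_W.2 ev_facts.2.1

theorem W_conj {n : ↥D.N} (h : ∀ u, Ev u → Ev (act (D.ψ n) u)) {a : G} (ha : a ∈ F.W) :
    (n : G) * a * (n : G)⁻¹ ∈ F.W := by
  obtain ⟨u, hu, rfl⟩ := ha
  exact ⟨_, h u hu, (D.e_conj n u).symm⟩

theorem Q_ev {t : ↥D.N} (ht : (t : G) ∈ F.Q) {a : G} (ha : a ∈ F.W) : (t : G) * a * (t : G)⁻¹ ∈ F.W :=
  F.W_conj (four_fix _ (F.proj t ht)).2 ha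

theorem R_norm : F.R ≤ Subgroup.normalizer (F.W : Set G) := fun t ht =>
  Fusion.mem_normalizer_of_cj_le (by
    rintro _ ⟨a, ha, rfl⟩
    exact F.Q_ev (t := ⟨t, F.hQN (F.R_le_Q ht)⟩) (F.R_le_Q ht) ha)

/-- the maximal subgroup of the Sylow subgroup -/
def M : Subgroup G := F.R ⊔ F.W

theorem mem_M {t : G} : t ∈ F.M ↔ ∃ r ∈ F.R, ∃ w ∈ F.W, t = r * w := by
  rw [M, ← SetLike.mem_coe, Subgroup.coe_mul_of_left_le_normalizer_right _ _ F.R_norm, Set.mem_mul]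
  exact ⟨fun ⟨r, hr, w, hw, e⟩ => ⟨r, hr, w, hw, e.symm⟩, fun ⟨r, hr, w, hw, e⟩ => ⟨r, hr, w, hw, e.symm⟩⟩

theorem M_le : F.M ≤ (F.Q : Subgroup G) := sup_le F.R_le_Q (F.W_le.trans F.hAQ)

theorem Q_split {t : G} (ht : t ∈ F.Q) : ∃ r ∈ F.R, ∃ a ∈ D.A, t = r * a := by
  let t' : ↥D.N := ⟨t, F.hQN ht⟩
  obtain ⟨r, hr, -, hψ⟩ := F.R_lift _ (F.proj t' ht)
  refine ⟨r, hr, (r⁻¹ * t' : ↥D.N), ker_mem D F.Q.2 (mul_mem (inv_mem (F.R_le_Q hr)) ht) ?_, ?_⟩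
  · rw [map_mul, map_inv, hψ, inv_mul_cancel]
  · show t = (r : G) * ((r : G)⁻¹ * t)
    rw [mul_inv_cancel_left]

theorem M_A {t : G} (ht : t ∈ F.M) (hA : t ∈ D.A) : t ∈ F.W := by
  obtain ⟨r, hr, w, hw, rfl⟩ := F.mem_M.1 ht
  let r' : ↥D.N := ⟨r, F.hQN (F.R_le_Q hr)⟩
  have h1 : (r' : G) ∈ D.A := by simpa [r'] using D.A.mul_mem hA (D.A.inv_mem (F.W_le hw))
  have h2 := congrArg Subtype.val (F.R_ker hr (D.ψ_A h1))
  rw [show r = 1 from h2, one_mul]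
  exact hw

theorem relIndex_M : F.M.relIndex (F.Q : Subgroup G) = 2 := by
  refine Subgroup.index_eq_two_iff.2 ⟨⟨D.e (dl 0), F.hAQ (D.e_mem _)⟩, fun t => ?_⟩
  obtain ⟨r, hr, a, ha, e⟩ := F.Q_split t.2
  obtain ⟨u, rfl⟩ := D.e_surj ha
  have key : ∀ v, r * D.e v ∈ F.M ↔ Ev v := fun v => by
    refine ⟨fun h => F.e_mem_W.1 (F.M_A ?_ (D.e_mem v)), fun h => F.mem_M.2 ⟨r, hr, _, F.e_mem_W.2 h, rfl⟩⟩
    have := mul_mem (inv_mem (show r ∈ F.M from Subgroup.mem_sup_left hr)) h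
    rwa [inv_mul_cancel_left] at this
  simp only [Subgroup.mem_subgroupOf, Subgroup.coe_mul, e]
  rw [mul_assoc, ← D.e_add, key, key]
  have h := ev_add_iff u (dl 0)
  have h0 := ev_facts.2.2.2.1
  by_cases hu : Ev u
  · exact Or.inr ⟨hu, fun h' => h0 ((h.1 h').1 hu)⟩
  · exact Or.inl ⟨h.2 ⟨fun a => absurd a hu, fun a => absurd a h0⟩, hu⟩

/-- the centraliser of the fixed point -/
abbrev C (_F : Frame D) : Subgroup G := Subgroup.centralizer ({D.pS} : Set G)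

theorem mem_C {n : ↥D.N} (h : act (D.ψ n) (dl 4) = dl 4) : (n : G) ∈ F.C := by
  rw [Subgroup.mem_centralizer_singleton_iff, ← mul_inv_eq_iff_eq_mul]
  exact (D.e_conj n _).trans (congrArg D.e h)

theorem Q_C : (F.Q : Subgroup G) ≤ F.C := fun t ht =>
  F.mem_C (n := ⟨t, F.hQN ht⟩) (four_fix _ (F.proj _ ht)).1

theorem g_C : (F.g : G) ∈ F.C := by
  obtain ⟨v, hv, h⟩ := F.ψg
  exact F.mem_C (by rw [h]; exact (turn_facts v hv).2.2.2.1)

theorem g_W {a : G} (ha : a ∈ F.W) : (F.g : G) * a * (F.g : G)⁻¹ ∈ F.W := by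
  obtain ⟨v, hv, h⟩ := F.ψg
  exact F.W_conj (by rw [h]; exact (turn_facts v hv).2.2.2.2) ha

/-- conjugates of points in `A` centralising the fixed point -/
theorem conj_e0 {c : G} (hc : c ∈ F.C) (hA : c * D.e (dl 0) * c⁻¹ ∈ D.A) :
    ∃ i : Fin 5, i ≠ 4 ∧ c * D.e (dl 0) * c⁻¹ = D.e (dl i) := by
  obtain ⟨u, hu⟩ := D.e_surj hA
  obtain ⟨n, hn⟩ := D.conj_point 0
  obtain ⟨i, hi⟩ := D.point_of_conj ((isConj_iff.2 ⟨(n : G), hn⟩).trans (isConj_iff.2 ⟨c, hu.symm⟩))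
  refine ⟨i, fun h4 => dl_four_ne.1 (D.e_eq.1 ?_), hu.symm.trans (D.e_eq.2 hi)⟩
  have hc' : c * D.pS * c⁻¹ = D.pS := mul_inv_eq_iff_eq_mul.2 (Subgroup.mem_centralizer_singleton_iff.1 hc)
  subst h4
  exact mul_left_cancel (mul_right_cancel ((hu.symm.trans (D.e_eq.2 hi)).trans hc'.symm))

theorem transfer : ∃ H : Subgroup ↥F.C, H.Normal ∧ H.index = 2 ∧
    (⟨D.e (dl 0), F.Q_C (F.hAQ (D.e_mem _))⟩ : ↥F.C) ∉ H := by
  haveI : Fact (Nat.Prime 2) := ⟨Nat.prime_two⟩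
  set z : ↥F.C := ⟨D.e (dl 0), F.Q_C (F.hAQ (D.e_mem _))⟩ with hz
  rcases Cfsg.Agent.S0111.result (F.Q.subtype F.Q_C) (F.M.subgroupOf F.C)
    (by rw [Sylow.coe_subtype]; exact fun t ht => F.M_le ht)
    (by rw [Sylow.coe_subtype, Subgroup.relIndex_subgroupOf F.Q_C, F.relIndex_M]) z
    (orderOf_eq_prime (by rw [pow_two]; exact Subtype.ext (D.sq _ (D.e_mem _)))
      (fun e => dl_ne_zero 0 (D.e_eq_one.1 (congrArg Subtype.val e))))
    (F.hAQ (D.e_mem _))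
    (fun h => ev_facts.2.2.2.1 (F.e_mem_W.1 (F.M_A h (D.e_mem _)))) with h | ⟨c, hc⟩
  · exact h
  exfalso
  have h1 : (c : G) * D.e (dl 0) * (c : G)⁻¹ ∈ F.M := hc
  have h2 := D.closed _ F.Q.2 F.hAQ _ (D.e_mem _) _ (F.M_le h1)
  obtain ⟨i, hi, e⟩ := F.conj_e0 c.2 h2
  exact hi (ev_point i (F.e_mem_W.1 (e ▸ F.M_A h1 h2)))

/-- the subgroup of index two of the centraliser -/
noncomputable def H : Subgroup ↥F.C := Classical.choose F.transfer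

theorem H_normal : F.H.Normal := (Classical.choose_spec F.transfer).1

theorem H_index : F.H.index = 2 := (Classical.choose_spec F.transfer).2.1

/-- membership in it, as a predicate on the group -/
def InH (t : G) : Prop := ∃ h : t ∈ F.C, (⟨t, h⟩ : ↥F.C) ∈ F.H

theorem inH_mul {a b : G} (ha : a ∈ F.C) (hb : b ∈ F.C) : F.InH (a * b) ↔ (F.InH a ↔ F.InH b) := by
  have h := Subgroup.mul_mem_iff_of_index_two F.H_index (a := ⟨a, ha⟩) (b := ⟨b, hb⟩)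
  simp only [InH, exists_prop_of_true ha, exists_prop_of_true hb, exists_prop_of_true (mul_mem ha hb)]
  exact h

theorem inH_conj {c a : G} (hc : c ∈ F.C) (ha : a ∈ F.C) : F.InH (c * a * c⁻¹) ↔ F.InH a := by
  haveI := F.H_normal
  simp only [InH, exists_prop_of_true ha, exists_prop_of_true (mul_mem (mul_mem hc ha) (inv_mem hc))]
  exact (Subgroup.Normal.mem_comm_iff F.H_normal (a := (⟨c, hc⟩ : ↥F.C) * ⟨a, ha⟩) (b := (⟨c, hc⟩ : ↥F.C)⁻¹)).trans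
    (by rw [inv_mul_cancel_left])

theorem inH_e (u : V5) : F.InH (D.e u) ↔ Ev u := by
  have hC : ∀ u, D.e u ∈ F.C := fun u => F.Q_C (F.hAQ (D.e_mem u))
  have hadd : ∀ u v, (F.InH (D.e u) ↔ Ev u) → (F.InH (D.e v) ↔ Ev v) → (F.InH (D.e (u + v)) ↔ Ev (u + v)) :=
    fun u v hu hv => by rw [D.e_add, F.inH_mul (hC u) (hC v), hu, hv, ev_add_iff]
  have h0 : F.InH (D.e 0) ↔ Ev 0 := by
    rw [D.e_zero]; exact ⟨fun _ => ev_facts.1, fun _ => ⟨one_mem _, one_mem _⟩⟩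
  have hd0 : ¬ F.InH (D.e (dl 0)) := fun ⟨_, h⟩ => (Classical.choose_spec F.transfer).2.2 h
  have hmove : ∀ (r : ↥D.N) (i : Fin 5), (r : G) ∈ F.Q → act (D.ψ r) (dl 0) = dl i → ¬ F.InH (D.e (dl i)) :=
    fun r i hr h hi => hd0 (by rwa [← h, ← D.e_conj, F.inH_conj (F.Q_C hr) (hC _)] at hi)
  obtain ⟨hx, hy, hxy⟩ := x0_moves
  have h1 : ¬ F.InH (D.e (dl 1)) := hmove F.x 1 F.xQ (by rw [F.ψx, hx])
  have h2 : ¬ F.InH (D.e (dl 2)) := hmove F.y 2 F.yQ (by rw [F.ψy, hy])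
  have h3 : ¬ F.InH (D.e (dl 3)) := hmove (F.x * F.y) 3 (mul_mem F.xQ F.yQ) (by rw [map_mul, F.ψx, F.ψy, hxy])
  have h4 : F.InH (D.e (dl 4)) := by
    rw [← D.e_eq.2 four_points, D.e_add, D.e_add, D.e_add, F.inH_mul (mul_mem (mul_mem (hC _) (hC _)) (hC _)) (hC _),
      F.inH_mul (mul_mem (hC _) (hC _)) (hC _), F.inH_mul (hC _) (hC _)]
    tauto
  have hdl : ∀ i, F.InH (D.e (dl i)) ↔ Ev (dl i) := fun i => by
    rw [ev_dl]
    fin_cases i <;> simp [hd0, h1, h2, h3, h4]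
  have hif : ∀ i, F.InH (D.e (if u i = 1 then dl i else 0)) ↔ Ev (if u i = 1 then dl i else 0) := fun i => by
    split
    · exact hdl i
    · exact h0
  rw [spread u]
  exact hadd _ _ (hadd _ _ (hadd _ _ (hadd _ _ (hif 0) (hif 1)) (hif 2)) (hif 3)) (hif 4)

theorem inH_gens : F.InH F.xG ∧ F.InH F.yG ∧ F.InH (F.xG * F.yG) := by
  obtain ⟨v, hv, hg⟩ := F.ψg
  obtain ⟨t1, t2, -, -, -⟩ := turn_facts v hv
  have step : ∀ r r' : ↥D.N, (r : G) ∈ F.Q → (r' : G) ∈ F.Q → r * r = 1 → r' * r' = 1 →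
      D.ψ F.g * D.ψ r * (D.ψ F.g)⁻¹ = D.ψ r' → D.ψ r' ∈ [x0, y0, x0 * y0] → (F.InH r ↔ F.InH r') := by
    intro r r' hr hr' hrr hrr' hψ hm
    have ht : ((F.g * r * F.g⁻¹ : ↥D.N) : G) ∈ F.Q := F.gQ r hr
    have hk := ker_mem D F.Q.2 (t := r'⁻¹ * (F.g * r * F.g⁻¹)) (mul_mem (inv_mem hr') ht)
      (by rw [map_mul, map_inv, map_mul, map_mul, map_inv, hψ, inv_mul_cancel])
    obtain ⟨u, hu⟩ := D.e_surj hk
    have hsq : F.g * r * F.g⁻¹ * (F.g * r * F.g⁻¹) = 1 := by rw [conj_mul, hrr, mul_one, mul_inv_cancel]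
    have hfix : Eqv (act (D.ψ r') u) u := by
      rw [← D.e_eq, ← D.e_conj]
      have e1 : ((r' : G) * D.e u) * ((r' : G) * D.e u) = 1 := by
        rw [hu, ← Subgroup.coe_mul, ← Subgroup.coe_mul, mul_inv_cancel_left, hsq]; rfl
      rw [show (r' : G) * D.e u * (r' : G)⁻¹ = ((r' : G) * D.e u * ((r' : G) * D.e u)) *
        (D.e u)⁻¹ * ((r' : G) * r')⁻¹ by group, e1, one_mul, inv_eq_of_mul_eq_one_right (D.sq _ (D.e_mem u)),
        show (r' : G) * r' = 1 from congrArg Subtype.val hrr', inv_one, mul_one]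
    have hev : Ev u := by
      refine ev_fixed u ?_
      simp only [List.mem_cons, List.not_mem_nil, or_false] at hm
      rcases hm with h | h | h <;> rw [h] at hfix
      exacts [Or.inl hfix, Or.inr (Or.inl hfix), Or.inr (Or.inr hfix)]
    have e : (F.g : G) * r * (F.g : G)⁻¹ = (r' : G) * D.e u := by
      rw [hu]; simp [mul_assoc]
    rw [← F.inH_conj F.g_C (F.Q_C hr), e, F.inH_mul (F.Q_C hr') (F.Q_C (F.hAQ (D.e_mem u))), F.inH_e u]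
    tauto
  have hxy2 : F.x * F.y * (F.x * F.y) = 1 := by
    rw [show F.x * F.y * (F.x * F.y) = F.x * (F.y * F.x) * F.y by group, ← F.xy, ← mul_assoc, F.xx, one_mul, F.yy]
  have s1 := step F.x (F.x * F.y) F.xQ (mul_mem F.xQ F.yQ) F.xx hxy2
    (by rw [hg, map_mul, F.ψx, F.ψy]; exact t1) (by rw [map_mul, F.ψx, F.ψy]; simp)
  have s2 := step (F.x * F.y) F.y (mul_mem F.xQ F.yQ) F.yQ hxy2 F.yy
    (by rw [hg, map_mul, F.ψx, F.ψy]; exact t2) (by rw [F.ψy]; simp)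
  rw [Subgroup.coe_mul] at s1 s2
  have h3 := F.inH_mul (F.Q_C F.xQ) (F.Q_C F.yQ)
  tauto

theorem inH_Q {t : G} (ht : t ∈ F.Q) : F.InH t ↔ t ∈ F.M := by
  obtain ⟨r, hr, a, ha, rfl⟩ := F.Q_split ht
  obtain ⟨u, rfl⟩ := D.e_surj ha
  have hrH : F.InH r := by
    obtain ⟨h1, h2, h3⟩ := F.inH_gens
    rcases hr with rfl | rfl | rfl | rfl
    exacts [⟨one_mem _, one_mem _⟩, h1, h2, h3]
  rw [F.inH_mul (F.Q_C (F.R_le_Q hr)) (F.Q_C (F.hAQ (D.e_mem u))), F.inH_e u, iff_true_left hrH]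
  refine ⟨fun h => F.mem_M.2 ⟨r, hr, _, F.e_mem_W.2 h, rfl⟩, fun h => F.e_mem_W.1 (F.M_A ?_ (D.e_mem u))⟩
  have := mul_mem (inv_mem (show r ∈ F.M from Subgroup.mem_sup_left hr)) h
  rwa [inv_mul_cancel_left] at this

end Frame

end Cfsg.Agent.AEightClosed
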