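import Cfsg.Agent.Lib.Fusion.AEightClosed.Point
import Cfsg.Agent.Lib.Char.ZStar

/-!
The centraliser of the fixed point is solvable.
-/

set_option autoImplicit false
set_option linter.style.haveILetI false
set_option linter.unusedSectionVars false

namespace Cfsg.Agent.AEightClosed

open Cfsg.Agent.Lie.JankoSylow (solvable_ext solvable_of_sq)

universe u

/-- Equality modulo constants and the last point. -/
def MEqv (u v : V5) : Prop := Eqv u v ∨ Eqv u (v + dl 4)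

instance (u v : V5) : Decidable (MEqv u v) := inferInstanceAs (Decidable (_ ∨ _))

theorem even_cases : ∀ u : V5, Ev u → MEqv u 0 ∨ MEqv u (dl 0 + dl 1) ∨ MEqv u (dl 0 + dl 2) ∨
    MEqv u (dl 0 + dl 3) := by decide +kernel

theorem even_table : MEqv (dl 0 + dl 1 + (dl 0 + dl 2)) (dl 0 + dl 3) ∧
    MEqv (dl 0 + dl 1 + (dl 0 + dl 3)) (dl 0 + dl 2) ∧ MEqv (dl 0 + dl 2 + (dl 0 + dl 3)) (dl 0 + dl 1) ∧
    ¬ MEqv (dl 0 + dl 1) 0 := by decide +kernel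

theorem turn_pairs : ∀ v ∈ four, MEqv (act (g0 * v) (dl 0 + dl 1)) (dl 0 + dl 3) ∧
    MEqv (act (g0 * v) (dl 0 + dl 3)) (dl 0 + dl 2) ∧ MEqv (act (g0 * v) (dl 0 + dl 2)) (dl 0 + dl 1) := by
  decide +kernel

theorem turn_moves : ∀ v ∈ four, ∀ r ∈ four, (g0 * v * r = r * (g0 * v) ∨
    g0 * v * (g0 * v) * r = r * (g0 * v * (g0 * v))) → r = 1 := by decide +kernel

theorem four_e0 : ∀ r ∈ four, MEqv (act r (dl 0)) (dl 0) → r = 1 := by decide +kernel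

theorem four_e0_even : ∀ r ∈ four, Ev (act r (dl 0) + dl 0) := by decide +kernel

theorem commute_of_sq_odd {R : Type*} [Group R] {c p : R} (h2 : Commute (c * c) p) {n : ℕ} (hn : Odd n)
    (hp : Commute (c ^ n) p) : Commute c p := by
  obtain ⟨j, rfl⟩ := hn
  have : c = ((c * c) ^ j)⁻¹ * c ^ (2 * j + 1) := by
    rw [← pow_two, ← pow_mul, pow_succ, inv_mul_cancel_left]
  rw [this]
  exact (h2.pow_left j).inv_left.mul_left hp

variable {G : Type u} [Group G] [Finite G] {D : Data G}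

namespace Frame

variable (F : Frame D)

theorem A_C {a : G} (ha : a ∈ D.A) : a ∈ F.C := F.Q_C (F.hAQ ha)

/-- an element of `A` in the centraliser -/
noncomputable def el (u : V5) : ↥F.C := ⟨D.e u, F.A_C (D.e_mem u)⟩

/-- the central subgroup -/
noncomputable abbrev Z : Subgroup ↥F.C := Subgroup.zpowers (F.el (dl 4))

theorem Z_cases {z : ↥F.C} (hz : z ∈ F.Z) : z = 1 ∨ z = F.el (dl 4) := by
  obtain ⟨i, rfl⟩ := Subgroup.mem_zpowers_iff.1 hz
  have h2 : F.el (dl 4) ^ (2 : ℤ) = 1 := by rw [zpow_two]; exact Subtype.ext (D.sq _ (D.e_mem _))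
  rcases Int.even_or_odd i with ⟨k, rfl⟩ | ⟨k, rfl⟩
  · exact Or.inl (by rw [← two_mul, zpow_mul, h2, one_zpow])
  · exact Or.inr (by rw [zpow_add, zpow_mul, h2, one_zpow, one_mul, zpow_one])

theorem el_central (c : ↥F.C) : c * F.el (dl 4) = F.el (dl 4) * c :=
  Subtype.ext (Subgroup.mem_centralizer_singleton_iff.1 c.2)

instance Z_normal : (F.Z).Normal := ⟨fun z hz c => by
  rcases F.Z_cases hz with rfl | rfl
  · simp
  · rw [F.el_central c, mul_inv_cancel_right]; exact hz⟩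

/-- the quotient by the fixed point -/
abbrev X : Type u := ↥F.C ⧸ F.Z

/-- the quotient map -/
noncomputable abbrev π : ↥F.C →* F.X := QuotientGroup.mk' F.Z

theorem π_eq {a b : ↥F.C} (h : F.π a = F.π b) : (b : G) = a ∨ (b : G) = a * D.pS := by
  rcases F.Z_cases (QuotientGroup.eq.1 h) with e | e
  · exact Or.inl (congrArg Subtype.val (inv_mul_eq_one.1 e).symm)
  · exact Or.inr (congrArg Subtype.val (inv_mul_eq_iff_eq_mul.1 e))

theorem π_el {u v : V5} (h : MEqv u v) : F.π (F.el u) = F.π (F.el v) := by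
  rcases h with h | h
  · exact congrArg F.π (Subtype.ext (D.e_eq.2 h))
  · rw [show F.el u = F.el v * F.el (dl 4) from Subtype.ext ((D.e_eq.2 h).trans (D.e_add _ _)), map_mul,
      show F.π (F.el (dl 4)) = 1 from (QuotientGroup.eq_one_iff _).2 (Subgroup.mem_zpowers _), mul_one]

theorem π_el_iff {u v : V5} : F.π (F.el u) = F.π (F.el v) ↔ MEqv u v := by
  refine ⟨fun h => ?_, F.π_el⟩
  rcases F.π_eq h.symm with e | e
  · exact Or.inl (D.e_eq.1 e)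
  · exact Or.inr (D.e_eq.1 (e.trans (D.e_add _ _).symm))

theorem π_el_add (u v : V5) : F.π (F.el (u + v)) = F.π (F.el u) * F.π (F.el v) := by
  rw [← map_mul]; exact congrArg F.π (Subtype.ext (D.e_add u v))

theorem π_el_zero : F.π (F.el 0) = 1 := by
  rw [show F.el 0 = 1 from Subtype.ext D.e_zero, map_one]

/-- images in the quotient -/
noncomputable def img (S : Subgroup G) : Subgroup F.X := (S.subgroupOf F.C).map F.π

theorem mem_img {S : Subgroup G} (hs : D.pS ∈ S) {c : ↥F.C} : F.π c ∈ F.img S ↔ (c : G) ∈ S := by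
  refine ⟨?_, fun h => ⟨c, h, rfl⟩⟩
  rintro ⟨d, hd, e⟩
  rcases F.π_eq e with e' | e'
  · exact e' ▸ hd
  · exact e' ▸ S.mul_mem hd hs

/-- the image of the even part -/
noncomputable abbrev Wb : Subgroup F.X := F.img F.W

/-- the image of the maximal subgroup -/
noncomputable abbrev Mb : Subgroup F.X := F.img F.M

theorem mem_Wb {c : ↥F.C} : F.π c ∈ F.Wb ↔ (c : G) ∈ F.W := F.mem_img F.pS_mem

theorem mem_Mb {c : ↥F.C} : F.π c ∈ F.Mb ↔ (c : G) ∈ F.M := F.mem_img (Subgroup.mem_sup_right F.pS_mem)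

theorem Wb_le : F.Wb ≤ F.Mb := Subgroup.map_mono fun _ h => Subgroup.mem_sup_right h

/-- the three nontrivial elements -/
noncomputable def w (i : Fin 5) : F.X := F.π (F.el (dl 0 + dl i))

theorem Wb_cases {p : F.X} (hp : p ∈ F.Wb) : p = 1 ∨ p = F.w 1 ∨ p = F.w 2 ∨ p = F.w 3 := by
  obtain ⟨c, hc, rfl⟩ := hp
  obtain ⟨u, hu, e⟩ := (hc : (c : G) ∈ F.W)
  rw [show c = F.el u from Subtype.ext e.symm, ← F.π_el_zero]
  exact (even_cases u hu).imp F.π_el (Or.imp F.π_el (Or.imp F.π_el F.π_el))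

theorem w_rules : F.w 1 * F.w 2 = F.w 3 ∧ F.w 1 * F.w 3 = F.w 2 ∧ F.w 2 * F.w 3 = F.w 1 ∧ F.w 1 ≠ 1 ∧
    ∀ i, F.w i * F.w i = 1 := by
  obtain ⟨a, b, c, d⟩ := even_table
  refine ⟨?_, ?_, ?_, ?_, fun i => ?_⟩
  · rw [w, w, ← F.π_el_add]; exact F.π_el a
  · rw [w, w, ← F.π_el_add]; exact F.π_el b
  · rw [w, w, ← F.π_el_add]; exact F.π_el c
  · rw [w, ← F.π_el_zero]; exact fun h => d (F.π_el_iff.1 h)
  · rw [w, ← map_mul, show F.el (dl 0 + dl i) * F.el (dl 0 + dl i) = 1 from Subtype.ext (D.sq _ (D.e_mem _)),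
      map_one]

theorem w_mem (i : Fin 5) (hi : i ≠ 4) : F.w i ∈ F.Wb :=
  F.mem_Wb.2 (F.e_mem_W.2 (point_shift i hi))

theorem Wb_comm {p q : F.X} (hp : p ∈ F.Wb) (hq : q ∈ F.Wb) : p * q = q * p := by
  obtain ⟨a, ha, rfl⟩ := hp
  obtain ⟨b, hb, rfl⟩ := hq
  rw [← map_mul, ← map_mul]
  exact congrArg F.π (Subtype.ext (D.comm (F.W_le ha) (F.W_le hb)))

theorem Wb_sq {p : F.X} (hp : p ∈ F.Wb) : p * p = 1 := by
  obtain ⟨a, ha, rfl⟩ := hp
  rw [← map_mul, show a * a = 1 from Subtype.ext (D.sq _ (F.W_le ha)), map_one]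

theorem Wb_four {p q r : F.X} (hp : p ∈ F.Wb) (hq : q ∈ F.Wb) (hr : r ∈ F.Wb) (hp1 : p ≠ 1) (hq1 : q ≠ 1)
    (hpq : q ≠ p) : r = 1 ∨ r = p ∨ r = q ∨ r = q * p := by
  obtain ⟨a, b, c, d, e⟩ := F.w_rules
  have a' : F.w 2 * F.w 1 = F.w 3 := (F.Wb_comm (F.w_mem 2 (by decide)) (F.w_mem 1 (by decide))).trans a
  have b' : F.w 3 * F.w 1 = F.w 2 := (F.Wb_comm (F.w_mem 3 (by decide)) (F.w_mem 1 (by decide))).trans b
  have c' : F.w 3 * F.w 2 = F.w 1 := (F.Wb_comm (F.w_mem 3 (by decide)) (F.w_mem 2 (by decide))).trans c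
  rcases F.Wb_cases hp with rfl | rfl | rfl | rfl <;> rcases F.Wb_cases hq with rfl | rfl | rfl | rfl <;>
    rcases F.Wb_cases hr with rfl | rfl | rfl | rfl <;> simp_all

/-- the Sylow subgroup of the quotient -/
noncomputable def Qb : Sylow 2 F.X :=
  haveI : Fact (Nat.Prime 2) := ⟨Nat.prime_two⟩
  (F.Q.subtype F.Q_C).mapSurjective (QuotientGroup.mk'_surjective F.Z)

theorem coe_Qb : (F.Qb : Subgroup F.X) = F.img (F.Q : Subgroup G) := by
  haveI : Fact (Nat.Prime 2) := ⟨Nat.prime_two⟩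
  rw [Qb, Sylow.coe_mapSurjective, Sylow.coe_subtype]; rfl

/-- the image of the subgroup of index two -/
noncomputable abbrev Hb : Subgroup F.X := F.H.map F.π

theorem Z_le_H : F.Z ≤ F.H := by
  obtain ⟨h, hh⟩ := (F.inH_e (dl 4)).2 ev_facts.2.1
  exact Subgroup.zpowers_le.2 hh

theorem mem_Hb {c : ↥F.C} : F.π c ∈ F.Hb ↔ F.InH (c : G) := by
  rw [← Subgroup.mem_comap, Subgroup.comap_map_eq, QuotientGroup.ker_mk', sup_eq_left.2 F.Z_le_H]
  exact ⟨fun h => ⟨c.2, h⟩, fun ⟨_, h⟩ => h⟩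

theorem Hb_index : F.Hb.index = 2 := by
  rw [Subgroup.index_map_eq F.H (QuotientGroup.mk'_surjective _) (by rw [QuotientGroup.ker_mk']; exact F.Z_le_H),
    F.H_index]

theorem inf_Hb : (F.Qb : Subgroup F.X) ⊓ F.Hb = F.Mb := by
  have hsQ : D.pS ∈ (F.Q : Subgroup G) := F.hAQ (D.e_mem _)
  ext p
  obtain ⟨c, rfl⟩ := QuotientGroup.mk'_surjective F.Z p
  rw [Subgroup.mem_inf, F.coe_Qb, F.mem_img hsQ, F.mem_Hb, F.mem_Mb]
  exact ⟨fun h => (F.inH_Q h.1).1 h.2, fun h => ⟨F.M_le h, (F.inH_Q (F.M_le h)).2 h⟩⟩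

theorem Mb_sq {p : F.X} (hp : p ∈ F.Mb) : p * p = 1 := by
  obtain ⟨c, hc, rfl⟩ := hp
  obtain ⟨r, hr, a, ⟨u, hu, rfl⟩, e⟩ := F.mem_M.1 hc
  obtain ⟨r', rfl, hr'⟩ := F.R_cases hr
  have h4 := F.proj r' (F.R_le_Q hr)
  have hrr : (r' : G) * r' = 1 := by
    obtain ⟨t, ht, htt, hψ⟩ := F.R_lift _ h4
    have : t = r' := inv_mul_eq_one.1 (F.R_ker (r := t⁻¹ * r') (mul_mem (inv_mem ht) hr)
      (by rw [map_mul, map_inv, hψ, inv_mul_cancel]))
    exact this ▸ congrArg Subtype.val htt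
  have e : (c : G) = (r' : G) * D.e u := e
  have hcc : c * c = F.el (u + act (D.ψ r') u) := Subtype.ext <| by
    show (c : G) * c = D.e _
    rw [e, add_comm, D.e_add, ← D.e_conj r' u, inv_eq_of_mul_eq_one_right hrr]
    group
  rw [← map_mul, hcc, ← F.π_el_zero]
  exact F.π_el ((ev_move u hu _ h4).imp id fun h => by rwa [zero_add])

theorem el_conj {t : ↥F.C} {n : ↥D.N} (h : (t : G) = n) (u : V5) :
    F.π t * F.π (F.el u) * (F.π t)⁻¹ = F.π (F.el (act (D.ψ n) u)) := by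
  rw [← map_inv, ← map_mul, ← map_mul]
  refine congrArg F.π (Subtype.ext ?_)
  show (t : G) * D.e u * (t : G)⁻¹ = _
  rw [h, D.e_conj]
  rfl

/-- the image of the turning element -/
noncomputable def gb : F.X := F.π ⟨F.g, F.g_C⟩

/-- the image of the first point -/
noncomputable def eb : F.X := F.π (F.el (dl 0))

theorem gb_w : F.gb * F.w 1 * F.gb⁻¹ = F.w 3 ∧ F.gb * F.w 3 * F.gb⁻¹ = F.w 2 ∧
    F.gb * F.w 2 * F.gb⁻¹ = F.w 1 := by
  obtain ⟨v, hv, hg⟩ := F.ψg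
  obtain ⟨a, b, c⟩ := turn_pairs v hv
  have key := fun u => F.el_conj (t := ⟨F.g, F.g_C⟩) (n := F.g) rfl u
  simp only [gb, w, key, hg]
  exact ⟨F.π_el a, F.π_el b, F.π_el c⟩

theorem gb_norm : F.gb ∈ Subgroup.normalizer (F.Mb : Set F.X) := by
  refine Fusion.mem_normalizer_of_cj_le ?_
  rintro _ ⟨_, ⟨c, hc, rfl⟩, rfl⟩
  show F.π _ * F.π c * (F.π _)⁻¹ ∈ _
  rw [← map_inv, ← map_mul, ← map_mul, F.mem_Mb]
  show (F.g : G) * c * (F.g : G)⁻¹ ∈ F.M
  exact (F.inH_Q (F.gQ _ (F.M_le hc))).1 ((F.inH_conj F.g_C c.2).2 ((F.inH_Q (F.M_le hc)).2 hc))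

theorem gb_moves {m : F.X} (hm : m ∈ F.Mb)
    (h : m⁻¹ * (F.gb * m * F.gb⁻¹) ∈ F.Wb ∨ m⁻¹ * (F.gb * F.gb * m * (F.gb * F.gb)⁻¹) ∈ F.Wb) : m ∈ F.Wb := by
  obtain ⟨v, hv, hg⟩ := F.ψg
  obtain ⟨c, hc, rfl⟩ := hm
  replace hc : (c : G) ∈ F.M := hc
  simp only [gb, ← map_inv, ← map_mul, F.mem_Wb] at h ⊢
  let c' : ↥D.N := ⟨c, F.hQN (F.M_le hc)⟩
  have hcomm : D.ψ F.g * D.ψ c' = D.ψ c' * D.ψ F.g ∨
      D.ψ F.g * D.ψ F.g * D.ψ c' = D.ψ c' * (D.ψ F.g * D.ψ F.g) := by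
    rcases h with h | h
    · have h1 : D.ψ (c'⁻¹ * (F.g * c' * F.g⁻¹)) = 1 := D.ψ_A (F.W_le h)
      rw [map_mul, map_mul, map_mul, map_inv, map_inv, inv_mul_eq_one, eq_mul_inv_iff_mul_eq] at h1
      exact Or.inl h1.symm
    · have h1 : D.ψ (c'⁻¹ * (F.g * F.g * c' * (F.g * F.g)⁻¹)) = 1 := D.ψ_A (F.W_le h)
      rw [map_mul, map_mul, map_mul, map_inv, map_inv, map_mul, inv_mul_eq_one, eq_mul_inv_iff_mul_eq] at h1
      exact Or.inr h1.symm
  rw [hg] at hcomm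
  have h1 := turn_moves v hv _ (F.proj c' (F.M_le hc)) hcomm
  exact F.M_A hc (ker_mem D F.Q.2 (F.M_le hc) h1)

theorem norm_Wb {c : F.X} (hc : c ∈ Subgroup.normalizer (F.Mb : Set F.X)) {p : F.X} (hp : p ∈ F.Wb) :
    c * p * c⁻¹ ∈ F.Wb := by
  have h := (Subgroup.mem_normalizer_iff.1 hc p).1 (F.Wb_le hp)
  obtain ⟨a, ha, rfl⟩ := hp
  obtain ⟨d, rfl⟩ := QuotientGroup.mk'_surjective F.Z c
  rw [← map_inv, ← map_mul, ← map_mul, F.mem_Mb] at h
  rw [← map_inv, ← map_mul, ← map_mul, F.mem_Wb]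
  exact F.M_A h (D.closed _ F.Q.2 F.hAQ _ (F.W_le ha) _ (F.M_le h))

theorem eb_comm {m : F.X} (hm : m ∈ F.Mb) : m * F.eb * m⁻¹ * F.eb⁻¹ ∈ F.Wb ∧
    (m * F.eb * m⁻¹ = F.eb → m ∈ F.Wb) := by
  obtain ⟨c, hc, rfl⟩ := hm
  let c' : ↥D.N := ⟨c, F.hQN (F.M_le hc)⟩
  have h4 := F.proj c' (F.M_le hc)
  rw [eb, F.el_conj (t := c) (n := c') rfl]
  refine ⟨?_, fun h => F.mem_Wb.2 (F.M_A hc (ker_mem D F.Q.2 (t := c') (F.M_le hc)
    (four_e0 _ h4 (F.π_el_iff.1 h))))⟩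
  rw [← map_inv, show (F.el (dl 0))⁻¹ = F.el (dl 0) from
    inv_eq_of_mul_eq_one_right (Subtype.ext (D.sq _ (D.e_mem _))), ← F.π_el_add, F.mem_Wb]
  exact F.e_mem_W.2 (four_e0_even _ h4)

/-- centralising the even part and normalising the four-part forces trivial action on the quotient -/
theorem cent_trivial {k : F.X} (hk : ∀ p ∈ F.Wb, Commute k p)
    (hkM : k ∈ Subgroup.normalizer (F.Mb : Set F.X)) {m : F.X} (hm : m ∈ F.Mb) :
    m⁻¹ * (k * m * k⁻¹) ∈ F.Wb := by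
  classical
  haveI : Fact (Nat.Prime 2) := ⟨Nat.prime_two⟩
  set Xi := Subgroup.centralizer (F.Wb : Set F.X)
  have hkXi : k ∈ Xi := Subgroup.mem_centralizer_iff.2 fun p hp => (hk p hp).eq.symm
  have hWc : F.Wb.subgroupOf Xi ≤ Subgroup.center ↥Xi := fun p hp => Subgroup.mem_center_iff.2 fun q =>
    Subtype.ext (Subgroup.mem_centralizer_iff.1 q.2 _ hp).symm
  set W' := F.Wb.subgroupOf Xi
  haveI : W'.Normal := ⟨fun p hp q => by
    rw [Subgroup.mem_center_iff.1 (hWc hp) q, mul_inv_cancel_right]; exact hp⟩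
  have hQX : (F.Qb : Subgroup F.X) ≤ Xi := by
    intro t ht
    refine Subgroup.mem_centralizer_iff.2 fun p hp => ?_
    rw [F.coe_Qb] at ht
    obtain ⟨c, hc, rfl⟩ := ht
    obtain ⟨a, ha, rfl⟩ := hp
    obtain ⟨u, hu, e⟩ := (ha : (a : G) ∈ F.W)
    rw [show a = F.el u from Subtype.ext e.symm]
    let c' : ↥D.N := ⟨c, F.hQN hc⟩
    refine (mul_inv_eq_iff_eq_mul.1 ((F.el_conj (t := c) (n := c') rfl u).trans (F.π_el ?_))).symm
    exact (by decide +kernel : ∀ u : V5, Ev u → ∀ r ∈ four, MEqv (act r u) u) u hu _ (F.proj c' hc)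
  have hQmem : ∀ c : ↥F.C, F.π c ∈ (F.Qb : Subgroup F.X) ↔ (c : G) ∈ F.Q := fun c => by
    rw [F.coe_Qb]; exact F.mem_img (F.hAQ (D.e_mem _))
  have hebQ : F.eb ∈ (F.Qb : Subgroup F.X) := (hQmem (F.el (dl 0))).2 (F.hAQ (D.e_mem _))
  set v : ↥Xi := ⟨F.eb, hQX hebQ⟩
  let f := QuotientGroup.mk' W'
  have hv2 : v * v = 1 := Subtype.ext (show F.eb * F.eb = 1 by
    rw [eb, ← map_mul, show F.el (dl 0) * F.el (dl 0) = 1 from Subtype.ext (D.sq _ (D.e_mem _)), map_one])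
  have hv1 : f v ≠ 1 := fun h => by
    have h1 : F.eb ∈ F.Wb := (QuotientGroup.eq_one_iff v).1 h
    rw [eb, F.mem_Wb] at h1
    exact ev_facts.2.2.2.1 (F.e_mem_W.1 h1)
  let P := (F.Qb.subtype hQX).mapSurjective (QuotientGroup.mk'_surjective W')
  have hP : (P : Subgroup (↥Xi ⧸ W')) = ((F.Qb : Subgroup F.X).subgroupOf Xi).map f := by
    rw [Sylow.coe_mapSurjective, Sylow.coe_subtype]
  have hiso : Char.OddInvol (f v) := by
    refine Char.oddInvol_of_isolated_sylow (P := P) (orderOf_eq_prime (by rw [pow_two, ← map_mul, hv2, map_one]) hv1)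
      (show f v ∈ (P : Subgroup (↥Xi ⧸ W')) from hP ▸ ⟨v, hebQ, rfl⟩) fun q hq => ?_
    obtain ⟨q, rfl⟩ := QuotientGroup.mk'_surjective W' q
    change _ ∈ (P : Subgroup (↥Xi ⧸ W')) at hq
    rw [hP, ← map_inv, ← map_mul, ← map_mul] at hq
    obtain ⟨t, ht, e⟩ := hq
    rw [← map_inv, ← map_mul, ← map_mul]
    have hWQ : F.Wb ≤ (F.Qb : Subgroup F.X) := F.Wb_le.trans (F.inf_Hb ▸ inf_le_left)
    have h1 : ((q * v * q⁻¹ : ↥Xi) : F.X) ∈ (F.Qb : Subgroup F.X) := by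
      have h2 := mul_mem ht (hWQ (QuotientGroup.eq.1 e : t⁻¹ * (q * v * q⁻¹) ∈ W'))
      rw [mul_inv_cancel_left] at h2
      exact h2
    obtain ⟨d, hd⟩ := QuotientGroup.mk'_surjective F.Z (q : F.X)
    change F.π d = (q : F.X) at hd
    have h3 : ((d * F.el (dl 0) * d⁻¹ : ↥F.C) : G) ∈ F.Q := by
      refine (hQmem _).1 ?_
      rw [map_mul, map_mul, map_inv, hd]
      exact h1
    obtain ⟨i, hi, hci⟩ := F.conj_e0 d.2 (D.closed _ F.Q.2 F.hAQ _ (D.e_mem _) _ h3)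
    refine QuotientGroup.eq.2 ?_
    show ((q : F.X) * F.eb * (q : F.X)⁻¹)⁻¹ * F.eb ∈ F.Wb
    rw [← hd, eb, ← map_inv, ← map_mul, ← map_mul, show d * F.el (dl 0) * d⁻¹ = F.el (dl i) from Subtype.ext hci,
      ← map_inv, show (F.el (dl i))⁻¹ = F.el (dl i) from
      inv_eq_of_mul_eq_one_right (Subtype.ext (D.sq _ (D.e_mem _))), ← F.π_el_add, F.mem_Wb, add_comm]
    refine F.e_mem_W.2 ?_
    exact point_shift i hi
  -- the conjugate differs by an element of odd order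
  haveI : (Cfsg.oddCore (↥Xi ⧸ W')).Normal := StrongProd.oddCore_normal _
  let k' : ↥Xi := ⟨k, hkXi⟩
  set o := v * (k' * v * k'⁻¹) with ho
  have hoO : f o ∈ Cfsg.oddCore (↥Xi ⧸ W') := by
    have := Char.zStar hiso (f k')
    rwa [inv_eq_of_mul_eq_one_right (by rw [← map_mul, hv2, map_one]),
      show f v * f k' * f v * (f k')⁻¹ = f o by rw [ho, map_mul, map_mul, map_mul, map_inv]; group] at this
  set n := Nat.card (Cfsg.oddCore (↥Xi ⧸ W'))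
  have hn : Odd n := Char.card_oddCore_odd _
  set z := o ^ n with hz
  have hzW : z ∈ W' := by
    rw [← QuotientGroup.eq_one_iff]
    show f (o ^ n) = 1
    rw [map_pow]
    exact congrArg Subtype.val (pow_card_eq_one' (x := (⟨f o, hoO⟩ : Cfsg.oddCore (↥Xi ⧸ W'))))
  have hW2 : ∀ p ∈ W', p * p = 1 := fun p hp => Subtype.ext (F.Wb_sq hp)
  have hWn : ∀ p ∈ W', p ^ n = p := fun p hp => by
    obtain ⟨j, hj⟩ := hn
    rw [hj, pow_succ, pow_mul, pow_two, hW2 p hp, one_pow, one_mul]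
  have hcen : ∀ p ∈ W', ∀ q : ↥Xi, Commute p q := fun p hp q => (Subgroup.mem_center_iff.1 (hWc hp) q).symm
  set o1 := o * z with ho1
  have ho1n : o1 ^ n = 1 := by
    rw [ho1, (hcen z hzW o).symm.mul_pow, hWn z hzW, ← hz, hW2 z hzW]
  have hkv : k' * v * k'⁻¹ = v * (o1 * z) := by
    rw [ho1, mul_assoc o, hW2 z hzW, mul_one, ho, ← mul_assoc, hv2, one_mul]
  have hMQ : F.Mb ≤ (F.Qb : Subgroup F.X) := F.inf_Hb ▸ inf_le_left
  have hm' : k * m * k⁻¹ ∈ F.Mb := (Subgroup.mem_normalizer_iff.1 hkM m).1 hm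
  let m1 : ↥Xi := ⟨m, hQX (hMQ hm)⟩
  let m2 : ↥Xi := ⟨k * m * k⁻¹, hQX (hMQ hm')⟩
  have hm2 : m2 = k' * m1 * k'⁻¹ := rfl
  set a := m1 * v * m1⁻¹ * v⁻¹
  set b := m2 * v * m2⁻¹ * v⁻¹
  have ha : a ∈ W' := (F.eb_comm hm).1
  have hb : b ∈ W' := (F.eb_comm hm').1
  have hav : m1 * v * m1⁻¹ = a * v := (inv_mul_cancel_right _ v).symm
  have hbv : m2 * v * m2⁻¹ = b * v := (inv_mul_cancel_right _ v).symm
  have key : m2 * o1 * m2⁻¹ = b⁻¹ * a * o1 := by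
    have e1 : m2 * (v * (o1 * z)) * m2⁻¹ = a * (v * (o1 * z)) := by
      rw [← hkv, hm2, show k' * m1 * k'⁻¹ * (k' * v * k'⁻¹) * (k' * m1 * k'⁻¹)⁻¹ = k' * (m1 * v * m1⁻¹) * k'⁻¹ by
        group, hav, show k' * (a * v) * k'⁻¹ = k' * a * k'⁻¹ * (k' * v * k'⁻¹) by group,
        ← (hcen a ha k').eq, mul_inv_cancel_right]
    have e2 : m2 * (v * (o1 * z)) * m2⁻¹ = b * v * (m2 * o1 * m2⁻¹ * z) := by
      rw [← hbv, show m2 * o1 * m2⁻¹ * z = m2 * o1 * (m2⁻¹ * z) by group, ← (hcen z hzW m2⁻¹).eq]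
      group
    rw [e2, mul_assoc b v, ← mul_assoc a v (o1 * z)] at e1
    have e3 : v * (m2 * o1 * m2⁻¹ * z) = v * (b⁻¹ * a * o1 * z) := by
      rw [eq_inv_mul_of_mul_eq e1, ← mul_assoc b⁻¹ (a * v), ← mul_assoc b⁻¹ a v,
        (hcen (b⁻¹ * a) (mul_mem (inv_mem hb) ha) v).eq]
      group
    exact mul_right_cancel (mul_left_cancel e3)
  have hab : b = a := by
    have hba : b⁻¹ * a ∈ W' := mul_mem (inv_mem hb) ha
    have h1 := congrArg (· ^ n) key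
    simp only [conj_pow, (hcen _ hba o1).mul_pow, ho1n, hWn _ hba, mul_one, mul_inv_cancel] at h1
    exact (inv_mul_eq_one.1 h1.symm)
  have hfix : m1⁻¹ * m2 * v * (m1⁻¹ * m2)⁻¹ = v := by
    rw [show m1⁻¹ * m2 * v * (m1⁻¹ * m2)⁻¹ = m1⁻¹ * (m2 * v * m2⁻¹) * m1 by group, hbv, hab, ← hav]
    group
  exact (F.eb_comm (mul_mem (inv_mem hm) hm')).2 (congrArg Subtype.val hfix)

theorem Mb_Hb : F.Mb ≤ F.Hb := F.inf_Hb ▸ inf_le_right

theorem fix_commutes {c : F.X} (hc : c ∈ Subgroup.normalizer (F.Mb : Set F.X))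
    (hodd : ∃ n : ℕ, Odd n ∧ ∀ p ∈ F.Mb, Commute (c ^ n) p) {h : F.X} (hh : h ∈ F.Mb) (hh1 : h ≠ 1)
    (hch : c * h * c⁻¹ = h) {p : F.X} (hp : p ∈ F.Mb) : Commute c p := by
  obtain ⟨n, hn, hcn⟩ := hodd
  have cjmul : ∀ a b, c * (a * b) * c⁻¹ = c * a * c⁻¹ * (c * b * c⁻¹) := fun a b => by group
  by_cases hsome : ∃ q ∈ F.Wb, q ≠ 1 ∧ c * q * c⁻¹ = q
  · obtain ⟨q, hq, hq1, hcq⟩ := hsome
    have hW : ∀ r ∈ F.Wb, Commute c r := by
      intro r hr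
      refine commute_of_sq_odd ?_ hn (hcn r (F.Wb_le hr))
      refine mul_inv_eq_iff_eq_mul.1 ?_
      rw [show c * c * r * (c * c)⁻¹ = c * (c * r * c⁻¹) * c⁻¹ by group]
      have h1 : c * r * c⁻¹ ∈ F.Wb := F.norm_Wb hc hr
      by_cases hr1 : r = 1
      · rw [hr1]; group
      by_cases hrq : r = q
      · rw [hrq, hcq, hcq]
      rcases F.Wb_four hq hr h1 hq1 hr1 hrq with e | e | e | e
      · exact absurd (conj_eq_one_iff.1 e) hr1
      · exact absurd (mul_left_cancel (mul_right_cancel (e.trans hcq.symm))) hrq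
      · rw [e, e]
      · rw [e, cjmul, e, hcq, mul_assoc, F.Wb_sq hq, mul_one]
    refine commute_of_sq_odd ?_ hn (hcn p hp)
    have h1 := F.cent_trivial hW hc hp
    set q' := p⁻¹ * (c * p * c⁻¹) with hq'
    have e : c * p * c⁻¹ = p * q' := (mul_inv_cancel_left p _).symm
    refine mul_inv_eq_iff_eq_mul.1 ?_
    rw [show c * c * p * (c * c)⁻¹ = c * (c * p * c⁻¹) * c⁻¹ by group, e, cjmul, e, (hW q' h1).eq,
      mul_inv_cancel_right, mul_assoc, F.Wb_sq h1, mul_one]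
  exfalso
  push Not at hsome
  have hhW : h ∉ F.Wb := fun hm => hsome h hm hh1 hch
  obtain ⟨r12, r13, r23, hw1, hsq⟩ := F.w_rules
  have hW1 := F.w_mem 1 (by decide)
  have hW2 := F.w_mem 2 (by decide)
  have hW3 := F.w_mem 3 (by decide)
  have hw2 : F.w 2 ≠ 1 := fun e => by
    obtain ⟨-, -, g21⟩ := F.gb_w
    exact hw1 (by rw [← g21, e, mul_one, mul_inv_cancel])
  have hw3 : F.w 3 ≠ 1 := fun e => by
    obtain ⟨g13, -, -⟩ := F.gb_w
    exact hw1 (conj_eq_one_iff.1 (g13.trans e))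
  -- the element or its inverse turns like `gb`
  obtain ⟨t, ht, ht'⟩ : ∃ t, (t = F.gb ∨ t = F.gb * F.gb) ∧
      ∀ q ∈ F.Wb, t * q * t⁻¹ = c * q * c⁻¹ := by
    obtain ⟨g13, g32, g21⟩ := F.gb_w
    have two : ∀ t : F.X, t * F.w 1 * t⁻¹ = c * F.w 1 * c⁻¹ → t * F.w 3 * t⁻¹ = c * F.w 3 * c⁻¹ →
        ∀ q ∈ F.Wb, t * q * t⁻¹ = c * q * c⁻¹ := by
      intro t h1 h3 q hq
      rcases F.Wb_cases hq with rfl | rfl | rfl | rfl
      · simp
      · exact h1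
      · rw [← r13, cjmul, show t * (F.w 1 * F.w 3) * t⁻¹ = t * F.w 1 * t⁻¹ * (t * F.w 3 * t⁻¹) by group, h1, h3]
      · exact h3
    rcases F.Wb_cases (F.norm_Wb hc hW1) with e | e | e | e
    · exact absurd (conj_eq_one_iff.1 e) hw1
    · exact absurd e (hsome _ hW1 hw1)
    · refine ⟨F.gb * F.gb, Or.inr rfl, two _ ?_ ?_⟩
      · rw [e, show F.gb * F.gb * F.w 1 * (F.gb * F.gb)⁻¹ = F.gb * (F.gb * F.w 1 * F.gb⁻¹) * F.gb⁻¹ by group,
          g13, g32]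
      · rw [show F.gb * F.gb * F.w 3 * (F.gb * F.gb)⁻¹ = F.gb * (F.gb * F.w 3 * F.gb⁻¹) * F.gb⁻¹ by group,
          g32, g21]
        rcases F.Wb_cases (F.norm_Wb hc hW3) with e3 | e3 | e3 | e3
        · exact absurd (conj_eq_one_iff.1 e3) hw3
        · exact e3.symm
        · exact absurd (mul_left_cancel (mul_right_cancel (e.trans e3.symm)) : F.w 1 = F.w 3)
            (fun e13 => hw2 (by rw [← r13, e13, hsq]))
        · exact absurd e3 (hsome _ hW3 hw3)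
    · refine ⟨F.gb, Or.inl rfl, two _ (by rw [e, g13]) ?_⟩
      rw [g32]
      rcases F.Wb_cases (F.norm_Wb hc hW3) with e3 | e3 | e3 | e3
      · exact absurd (conj_eq_one_iff.1 e3) hw3
      · exfalso
        refine hsome _ hW2 hw2 ?_
        rw [← r13, cjmul, e, e3, F.Wb_comm hW3 hW1]
      · exact e3.symm
      · exact absurd e3 (hsome _ hW3 hw3)
  have htN : t ∈ Subgroup.normalizer (F.Mb : Set F.X) := by
    rcases ht with rfl | rfl
    exacts [F.gb_norm, mul_mem F.gb_norm F.gb_norm]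
  have hk : ∀ q ∈ F.Wb, Commute (t⁻¹ * c) q := fun q hq => by
    refine mul_inv_eq_iff_eq_mul.1 ?_
    rw [show t⁻¹ * c * q * (t⁻¹ * c)⁻¹ = t⁻¹ * (c * q * c⁻¹) * t by group, ← ht' q hq]
    group
  have h1 := F.cent_trivial hk (mul_mem (inv_mem htN) hc) hh
  have h2 : h⁻¹ * (t * h * t⁻¹) ∈ F.Wb := by
    have h3 := F.norm_Wb htN h1
    rw [show t⁻¹ * c * h * (t⁻¹ * c)⁻¹ = t⁻¹ * (c * h * c⁻¹) * t by group, hch,
      show t * (h⁻¹ * (t⁻¹ * h * t)) * t⁻¹ = (h⁻¹ * (t * h * t⁻¹))⁻¹ by group] at h3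
    exact inv_mem_iff.1 h3
  rcases ht with rfl | rfl
  · exact hhW (F.gb_moves hh (Or.inl h2))
  · exact hhW (F.gb_moves hh (Or.inr h2))

theorem card_Mb : Nat.card F.Mb = 16 := by
  have h1 := Subgroup.relIndex_mul_relIndex ⊥ F.M (F.Q : Subgroup G) bot_le F.M_le
  rw [Subgroup.relIndex_bot_left, Subgroup.relIndex_bot_left, F.relIndex_M, D.h64] at h1
  have h2 := Subgroup.relIndex_mul_relIndex ⊥ F.Z (F.M.subgroupOf F.C) bot_le
    (Subgroup.zpowers_le.2 (Subgroup.mem_sup_right F.pS_mem : (F.el (dl 4) : G) ∈ F.M))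
  rw [Subgroup.relIndex_bot_left, Subgroup.relIndex_bot_left,
    Nat.card_congr (Subgroup.subgroupOfEquivOfLe (F.M_le.trans F.Q_C)).toEquiv] at h2
  have h3 : Nat.card F.Z = 2 := by
    rw [Nat.card_zpowers, orderOf_eq_prime (x := F.el (dl 4)) (p := 2)
      (by rw [pow_two]; exact Subtype.ext (D.sq _ (D.e_mem _)))
      (fun e => dl_ne_zero 4 (D.e_eq_one.1 (congrArg Subtype.val e)))]
  have h4 := Subgroup.relIndex_ker (f := F.π) (K := F.M.subgroupOf F.C)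
  rw [QuotientGroup.ker_mk'] at h4
  rw [h3, h4] at h2
  show Nat.card (F.img F.M) = 16
  rw [img]
  omega

theorem solvable_C : Group.IsSolvable ↥F.C := by
  haveI : Fact (Nat.Prime 2) := ⟨Nat.prime_two⟩
  haveI := F.H_normal
  haveI hHn : F.Hb.Normal := Subgroup.normal_of_index_eq_two F.Hb_index
  have hsyl : Fusion.SylIn 2 F.Mb F.Hb := F.inf_Hb ▸
    (Fusion.sylIn_top F.Qb).inf_normal le_top (fun x _ => by rw [Subgroup.normalizer_eq_top]; trivial)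
  obtain ⟨P, hP⟩ := hsyl.exists_sylow_subgroupOf
  have hw : F.π (F.el (dl 0 + dl 1)) ∈ F.Mb := F.Wb_le (F.w_mem 1 (by decide))
  have hx : F.π ⟨F.xG, F.Q_C F.xQ⟩ ∈ F.Mb := F.mem_Mb.2 (Subgroup.mem_sup_left (Or.inr (Or.inl rfl)))
  have hsq : ∀ p ∈ (P : Subgroup ↥F.Hb), p * p = 1 := fun p hp => Subtype.ext (F.Mb_sq (hP ▸ hp : p ∈ _))
  have hmem : ∀ p : ↥F.Hb, p ∈ P ↔ (p : F.X) ∈ F.Mb := fun p => by
    show p ∈ (P : Subgroup ↥F.Hb) ↔ _; rw [hP]; rfl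
  have hY : Group.IsSolvable ↥F.Hb := by
    refine solvable_of_abelian_sylow P hsq ?_ ?_ (u := ⟨_, F.Mb_Hb hw⟩) (v := ⟨_, F.Mb_Hb hx⟩)
      ((hmem _).2 hw) ((hmem _).2 hx) ?_ ?_ ?_
    · show 8 ≤ Nat.card ↥(P : Subgroup ↥F.Hb)
      rw [hP, Nat.card_congr (Subgroup.subgroupOfEquivOfLe F.Mb_Hb).toEquiv, F.card_Mb]
      norm_num
    · intro h hh hh1 c hc hch p hp
      refine Subtype.ext (F.fix_commutes (c := (c : F.X)) ?_ ?_ ((hmem h).1 hh) (fun e => hh1 (Subtype.ext e))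
        (mul_inv_eq_iff_eq_mul.2 (congrArg Subtype.val hch)) ((hmem p).1 hp)).eq
      · refine Fusion.mem_normalizer_of_cj_le ?_
        rintro _ ⟨q, hq, rfl⟩
        exact (hmem _).1 ((Subgroup.mem_normalizer_iff.1 hc ⟨q, F.Mb_Hb hq⟩).1 ((hmem _).2 hq))
      · obtain ⟨n, hn, hcn⟩ := odd_pow_centralizes P (fun a ha b hb => StrongProd.commute_of_sq hsq ha hb) hc
        exact ⟨n, hn, fun q hq => (congrArg Subtype.val
          (Subgroup.mem_centralizer_iff.1 hcn ⟨q, F.Mb_Hb hq⟩ ((hmem _).2 hq))).symm⟩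
    · exact fun e => F.w_rules.2.2.2.1 (congrArg Subtype.val e)
    · intro e
      have e' : F.π ⟨F.xG, F.Q_C F.xQ⟩ = 1 := congrArg Subtype.val e
      rw [← F.π_el_zero] at e'
      rcases F.π_eq e'.symm with h | h
      · have : F.xG = 1 := h.trans D.e_zero
        exact gens_facts.2.2.2.1 (by rw [← F.ψx, show F.x = 1 from Subtype.ext this, map_one])
      · have : F.xG ∈ D.A := by
          rw [show F.xG = D.e 0 * D.pS from h]; exact D.A.mul_mem (D.e_mem 0) (D.e_mem _)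
        exact gens_facts.2.2.2.1 (F.ψx ▸ D.ψ_A this)
    · intro hconj
      obtain ⟨c, hc⟩ := isConj_iff.1 hconj
      obtain ⟨d, hd⟩ := QuotientGroup.mk'_surjective F.Z (c : F.X)
      change F.π d = (c : F.X) at hd
      have h1 : F.π (d * F.el (dl 0 + dl 1) * d⁻¹) = F.π ⟨F.xG, F.Q_C F.xQ⟩ := by
        rw [map_mul, map_mul, map_inv, hd]
        exact congrArg Subtype.val hc
      rcases F.π_eq h1 with e | e
      · refine D.three.2.2 _ F.x (D.e_mem _) F.xx (F.ψx ▸ gens_facts.2.2.2.1) (isConj_iff.2 ⟨(d : G), e.symm⟩)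
      · let s' : ↥D.N := ⟨D.pS, D.A_le (D.e_mem _)⟩
        have hcomm : F.x * s' = s' * F.x := Subtype.ext (Subgroup.mem_centralizer_singleton_iff.1 (F.Q_C F.xQ))
        refine D.three.2.2 _ (F.x * s') (D.e_mem (dl 0 + dl 1)) ?_ ?_ (isConj_iff.2 ⟨(d : G), ?_⟩)
        · rw [show F.x * s' * (F.x * s') = F.x * (s' * F.x) * s' by group, ← hcomm,
            show F.x * (F.x * s') * s' = F.x * F.x * (s' * s') by group, F.xx,
            show s' * s' = 1 from Subtype.ext (D.sq _ (D.e_mem _)), one_mul]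
        · rw [map_mul, F.ψx, D.ψ_A (D.e_mem _), mul_one]; exact gens_facts.2.2.2.1
        · show (d : G) * D.e (dl 0 + dl 1) * (d : G)⁻¹ = F.xG * D.pS
          rw [show F.xG = (d : G) * D.e (dl 0 + dl 1) * (d : G)⁻¹ * D.pS from e, mul_assoc _ D.pS D.pS,
            show D.pS * D.pS = 1 from D.sq _ (D.e_mem _), mul_one]
  have hX : Group.IsSolvable F.X := solvable_of_sq F.Hb hY fun t => Subgroup.mul_self_mem_of_index_two F.Hb_index t
  exact solvable_ext F.Z (Group.isSolvable_of_comm fun a b => mul_comm' a b) hX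

end Frame

end Cfsg.Agent.AEightClosed
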