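import Cfsg.Agent.Lib.Fusion.AEightClosed.Module
import Cfsg.Agent.Lib.Fusion.AEightClosed.Basic

/-!
The configuration: an elementary abelian subgroup of order sixteen whose normaliser induces the alternating
group of degree five, with Sylow 2-subgroups of order sixty-four and three classes of involutions.
-/

set_option autoImplicit false
set_option linter.style.haveILetI false
set_option linter.unusedSectionVars false

namespace Cfsg.Agent.AEightClosed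

open Cfsg.Agent.Fusion (SylIn)
open Cfsg.Agent.Lie.JankoSylow (Closed two_of_sq closed_of_strongly)

universe u

/-- The hypotheses. -/
structure Data (G : Type u) [Group G] where
  /-- the elementary abelian subgroup -/
  A : Subgroup G
  sq : ∀ a ∈ A, a * a = 1
  h16 : Nat.card A = 16
  /-- the quotient map -/
  ψ : ↥(Subgroup.normalizer (A : Set G)) →* A5
  surj : Function.Surjective ψ
  ker : ψ.ker = A.subgroupOf (Subgroup.normalizer (A : Set G)) ⊔ Cfsg.oddCore ↥(Subgroup.normalizer (A : Set G))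
  h64 : ∀ Q : Sylow 2 G, Nat.card Q = 64
  ncen : ∀ (Q : Sylow 2 G) (Z : Subgroup Q), Z ≤ Subgroup.center Q → Z.index ≠ 4
  h3 : Nat.card {c : ConjClasses G // ∃ x ∈ c.carrier, orderOf x = 2} = 3

variable {G : Type u} [Group G] [Finite G]

namespace Data

variable (D : Data G)

/-- the normaliser -/
abbrev N : Subgroup G := Subgroup.normalizer (D.A : Set G)

theorem A_le : D.A ≤ D.N := Subgroup.le_normalizer

theorem comm {a b : G} (ha : a ∈ D.A) (hb : b ∈ D.A) : a * b = b * a := StrongProd.commute_of_sq D.sq ha hb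

theorem conj_A (n : ↥D.N) {a : G} (ha : a ∈ D.A) : (n : G) * a * (n : G)⁻¹ ∈ D.A :=
  (Subgroup.mem_normalizer_iff.1 n.2 a).1 ha

/-- `A` inside the normaliser -/
abbrev AN : Subgroup ↥D.N := D.A.subgroupOf D.N

theorem AN_normal : D.AN.Normal := ⟨fun a ha n => D.conj_A n ha⟩

theorem ψ_A {n : ↥D.N} (h : (n : G) ∈ D.A) : D.ψ n = 1 := by
  rw [← MonoidHom.mem_ker, D.ker]
  exact Subgroup.mem_sup_left h

theorem meet {x : ↥D.N} (ha : (x : G) ∈ D.A) (ho : x ∈ Cfsg.oddCore ↥D.N) : x = 1 := by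
  have h1 := (Char.card_oddCore_odd ↥D.N).of_dvd_nat (Subgroup.orderOf_dvd_natCard _ ho)
  rcases (Nat.dvd_prime Nat.prime_two).1 (orderOf_dvd_of_pow_eq_one
    (show x ^ 2 = 1 by rw [pow_two]; exact Subtype.ext (D.sq _ ha))) with h | h
  · exact orderOf_eq_one_iff.1 h
  · rw [h] at h1; exact absurd h1 (by decide)

theorem core_comm {o : ↥D.N} (ho : o ∈ Cfsg.oddCore ↥D.N) {a : G} (ha : a ∈ D.A) :
    (o : G) * a = a * (o : G) := by
  haveI : (Cfsg.oddCore ↥D.N).Normal := StrongProd.oddCore_normal _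
  let a' : ↥D.N := ⟨a, D.A_le ha⟩
  have h : o * a' * o⁻¹ * a'⁻¹ = 1 := D.meet (D.A.mul_mem (D.conj_A o ha) (D.A.inv_mem ha)) (by
    rw [show o * a' * o⁻¹ * a'⁻¹ = o * (a' * o⁻¹ * a'⁻¹) by group]
    exact mul_mem ho (Subgroup.Normal.conj_mem inferInstance _ (inv_mem ho) a'))
  exact congrArg Subtype.val (mul_inv_eq_iff_eq_mul.1 (mul_inv_eq_one.1 h) : o * a' = a' * o)

theorem ker_split {n : ↥D.N} (h : D.ψ n = 1) :
    ∃ a : ↥D.N, (a : G) ∈ D.A ∧ ∃ o ∈ Cfsg.oddCore ↥D.N, n = a * o := by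
  haveI : (Cfsg.oddCore ↥D.N).Normal := StrongProd.oddCore_normal _
  rw [← MonoidHom.mem_ker, D.ker, Subgroup.mem_sup_of_normal_right] at h
  obtain ⟨a, ha, o, ho, e⟩ := h
  exact ⟨a, ha, o, ho, e.symm⟩

theorem mem_A_two {n : ↥D.N} (h : D.ψ n = 1) {k : ℕ} (hn : n ^ 2 ^ k = 1) : (n : G) ∈ D.A := by
  obtain ⟨a, ha, o, ho, rfl⟩ := D.ker_split h
  rcases k with _ | k
  · simp only [pow_zero, pow_one] at hn
    rw [hn]; exact one_mem _
  have hc : Commute a o := Subtype.ext (D.core_comm ho ha).symm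
  have ha2 : a ^ 2 ^ (k + 1) = 1 := by
    rw [pow_succ', pow_mul, pow_two, show a * a = 1 from Subtype.ext (D.sq _ ha), one_pow]
  rw [hc.mul_pow, ha2, one_mul] at hn
  have h1 : orderOf o = 1 := Nat.eq_one_of_dvd_coprimes
    ((Nat.coprime_two_right.2 ((Char.card_oddCore_odd ↥D.N).of_dvd_nat
      (Subgroup.orderOf_dvd_natCard _ ho))).pow_right (k + 1)) dvd_rfl (orderOf_dvd_of_pow_eq_one hn)
  rw [orderOf_eq_one_iff.1 h1, mul_one]
  exact ha

theorem mem_A_invol {n : ↥D.N} (h : D.ψ n = 1) (hn : n * n = 1) : (n : G) ∈ D.A :=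
  D.mem_A_two (k := 1) h (by rw [pow_one, pow_two, hn])

theorem card_N : Nat.card D.N = 64 * (15 * Nat.card (Cfsg.oddCore ↥D.N)) := by
  classical
  haveI := D.AN_normal
  let f : ↥D.AN × ↥(Cfsg.oddCore ↥D.N) → ↥D.ψ.ker := fun p => ⟨(p.1 : ↥D.N) * p.2, by
    rw [D.ker]; exact Subgroup.mul_mem_sup p.1.2 p.2.2⟩
  have hf : Function.Bijective f := by
    refine ⟨fun ⟨a, o⟩ ⟨a', o'⟩ e => ?_, fun ⟨n, hn⟩ => ?_⟩
    · have e' : (a : ↥D.N) * o = a' * o' := congrArg Subtype.val e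
      have h1 : (a' : ↥D.N)⁻¹ * a = o' * (o : ↥D.N)⁻¹ := by
        rw [inv_mul_eq_iff_eq_mul, ← mul_assoc, eq_mul_inv_iff_mul_eq, e']
      have h2 : (a' : ↥D.N)⁻¹ * a = 1 := D.meet (mul_mem (inv_mem a'.2) a.2 : _ ∈ D.AN)
        (h1 ▸ mul_mem o'.2 (inv_mem o.2))
      exact Prod.ext (Subtype.ext (inv_mul_eq_one.1 h2).symm)
        (Subtype.ext (mul_inv_eq_one.1 (h1.symm.trans h2)).symm)
    · obtain ⟨a, ha, o, ho, e⟩ := D.ker_split (MonoidHom.mem_ker.1 hn)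
      exact ⟨⟨⟨a, ha⟩, ⟨o, ho⟩⟩, Subtype.ext e.symm⟩
  have hc := Nat.card_congr (Equiv.ofBijective f hf)
  rw [Nat.card_prod, Nat.card_congr (Subgroup.subgroupOfEquivOfLe D.A_le).toEquiv, D.h16] at hc
  have h60 : D.ψ.ker.index = 60 := by
    rw [Subgroup.index_ker, MonoidHom.range_eq_top.2 D.surj, Subgroup.card_top, Nat.card_eq_fintype_card]
    decide +kernel
  rw [← Subgroup.index_mul_card D.ψ.ker, h60, ← hc]
  ring

/-- Sylow subgroups of the normaliser are Sylow subgroups of the group and contain `A`. -/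
theorem syl_N {T : Subgroup G} (hT : SylIn 2 T D.N) : (∃ Q : Sylow 2 G, (Q : Subgroup G) = T) ∧ D.A ≤ T := by
  haveI : Fact (Nat.Prime 2) := ⟨Nat.prime_two⟩
  have h1 := Subgroup.relIndex_mul_relIndex ⊥ T D.N bot_le hT.le
  rw [Subgroup.relIndex_bot_left, Subgroup.relIndex_bot_left, D.card_N] at h1
  have hd : 64 ∣ Nat.card T :=
    ((Nat.Coprime.pow_left 6 ((Nat.prime_two.coprime_iff_not_dvd).2 hT.not_dvd)).dvd_of_dvd_mul_right
      (show 2 ^ 6 ∣ Nat.card T * T.relIndex D.N from h1 ▸ Dvd.intro _ rfl))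
  obtain ⟨Q, hQ⟩ := hT.isPGroup.exists_le_sylow
  have hQT : T = (Q : Subgroup G) := Subgroup.eq_of_le_of_card_ge hQ (by
    rw [D.h64 Q]; exact Nat.le_of_dvd Nat.card_pos hd)
  refine ⟨⟨Q, hQT.symm⟩, ?_⟩
  obtain ⟨x, hx, hle⟩ := hT.conj_le (two_of_sq D.sq) D.A_le
  rwa [Fusion.cj_eq_self hx] at hle

theorem exists_syl : ∃ Q : Sylow 2 G, (Q : Subgroup G) ≤ D.N ∧ D.A ≤ Q := by
  haveI : Fact (Nat.Prime 2) := ⟨Nat.prime_two⟩
  obtain ⟨T, hT⟩ := Fusion.exists_sylIn (p := 2) D.N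
  obtain ⟨⟨Q, hQ⟩, hA⟩ := D.syl_N hT
  exact ⟨Q, hQ ▸ hT.le, hQ ▸ hA⟩

theorem exists_act : ∃ n : ↥D.N, ∃ a ∈ D.A, (n : G) * a * (n : G)⁻¹ ≠ a := by
  by_contra hcon
  push Not at hcon
  obtain ⟨Q, hQN, hAQ⟩ := D.exists_syl
  refine D.ncen Q (D.A.subgroupOf Q) (fun a ha => Subgroup.mem_center_iff.2 fun q => Subtype.ext ?_) ?_
  · exact mul_inv_eq_iff_eq_mul.1 (hcon ⟨q, hQN q.2⟩ a ha)
  · have h := Subgroup.index_mul_card (D.A.subgroupOf (Q : Subgroup G))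
    rw [Nat.card_congr (Subgroup.subgroupOfEquivOfLe hAQ).toEquiv, D.h16, D.h64 Q] at h
    omega

/-- the conjugation action of the normaliser -/
def conjHom : ↥D.N →* MulAut ↥D.A :=
  MonoidHom.mk' (fun n =>
    { toFun := fun a => ⟨(n : G) * a * (n : G)⁻¹, D.conj_A n a.2⟩
      invFun := fun a => ⟨(n : G)⁻¹ * a * (n : G), by
        have := D.conj_A n⁻¹ a.2
        rwa [Subgroup.coe_inv, inv_inv] at this⟩
      left_inv := fun a => Subtype.ext (show (n : G)⁻¹ * ((n : G) * a * (n : G)⁻¹) * n = a by group)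
      right_inv := fun a => Subtype.ext (show (n : G) * ((n : G)⁻¹ * a * (n : G)) * (n : G)⁻¹ = a by group)
      map_mul' := fun a b => Subtype.ext (show (n : G) * ((a : G) * b) * (n : G)⁻¹ =
        (n : G) * a * (n : G)⁻¹ * ((n : G) * b * (n : G)⁻¹) by group) })
    (fun m n => MulEquiv.ext fun a => Subtype.ext (show ((m : G) * n) * a * ((m : G) * n)⁻¹ =
      (m : G) * ((n : G) * a * (n : G)⁻¹) * (m : G)⁻¹ by group))

theorem conjHom_ker : D.ψ.ker ≤ D.conjHom.ker := fun n hn => by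
  obtain ⟨a, ha, o, ho, rfl⟩ := D.ker_split (MonoidHom.mem_ker.1 hn)
  refine MonoidHom.mem_ker.2 (MulEquiv.ext fun b => Subtype.ext ?_)
  show (a : G) * o * b * ((a : G) * o)⁻¹ = b
  rw [mul_assoc (a : G), D.core_comm ho b.2, ← mul_assoc, D.comm ha b.2]
  group

/-- the induced action of the quotient -/
noncomputable def ρ : A5 →* MulAut ↥D.A := D.ψ.liftOfSurjective D.surj ⟨D.conjHom, D.conjHom_ker⟩

theorem ρ_apply (n : ↥D.N) (a : ↥D.A) : (D.ρ (D.ψ n) a : G) = (n : G) * a * (n : G)⁻¹ := by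
  rw [ρ, MonoidHom.liftOfRightInverse_comp_apply]
  rfl

theorem ρ_inj : Function.Injective D.ρ := by
  haveI := alternatingGroup.isSimpleGroup_five
  rw [← MonoidHom.ker_eq_bot_iff]
  refine ((MonoidHom.normal_ker D.ρ).eq_bot_or_eq_top).resolve_right fun h => ?_
  obtain ⟨n, a, ha, hne⟩ := D.exists_act
  refine hne ?_
  have h1 : D.ρ (D.ψ n) = 1 := MonoidHom.mem_ker.1 (h ▸ Subgroup.mem_top _)
  rw [← D.ρ_apply n ⟨a, ha⟩, h1]
  rfl

/-- `A` as a commutative group -/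
@[reducible] def commA : CommGroup ↥D.A :=
  { (inferInstance : Group ↥D.A) with mul_comm := fun a b => Subtype.ext (D.comm a.2 b.2) }

theorem sq_A (a : ↥D.A) : a * a = 1 := Subtype.ext (D.sq a a.2)

theorem coset_x0 {z : ↥D.N} (hz : z * z = 1) (hψ : D.ψ z = x0) {a : G} (ha : a ∈ D.A)
    (hza : (z : G) * a * ((z : G) * a) = 1) : ∃ c ∈ D.A, c * (z : G) * c⁻¹ = (z : G) * a := by
  letI := D.commA
  have hz' : (z : G) * z = 1 := congrArg Subtype.val hz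
  have hfix : (z : G) * a * (z : G)⁻¹ = a := by
    rw [inv_eq_of_mul_eq_one_right hz']
    have h1 : (z : G) * a * z * a = 1 := by rw [← hza]; group
    rw [← inv_eq_of_mul_eq_one_left h1, inv_eq_of_mul_eq_one_right (D.sq a ha)]
  have hmem : (⟨a, ha⟩ : ↥D.A) ∈ (nm D.ρ x0).range := by
    rw [(fix_x0 D.ρ_inj D.sq_A D.h16).2, mem_fixd, ← hψ]
    exact Subtype.ext ((D.ρ_apply z _).trans hfix)
  obtain ⟨c, hc⟩ := hmem
  refine ⟨c, c.2, ?_⟩
  have e : (c : G) * ((z : G) * c * (z : G)⁻¹) = a := by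
    rw [← D.ρ_apply z c, hψ]
    exact congrArg Subtype.val hc
  rw [← mul_inv_eq_iff_eq_mul.1 hfix |>.symm, ← e, inv_eq_of_mul_eq_one_right (D.sq c c.2)]
  group

theorem outer_conj_x0 {z z' : ↥D.N} (hz : z * z = 1) (hz' : z' * z' = 1) (hψ : D.ψ z = x0)
    (hψ' : D.ψ z' = x0) : ∃ n : ↥D.N, n * z * n⁻¹ = z' := by
  haveI : (Cfsg.oddCore ↥D.N).Normal := StrongProd.oddCore_normal _
  obtain ⟨a, ha, o, ho, e⟩ := D.ker_split (n := z⁻¹ * z') (by rw [map_mul, map_inv, hψ, hψ', inv_mul_cancel])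
  have hz'e : z' = z * a * o := by rw [mul_assoc, ← e, mul_inv_cancel_left]
  -- the square of `z a` lies in both factors
  have hza : z * a * (z * a) = 1 := by
    refine D.meet ?_ ?_
    · have h1 := D.conj_A z ha
      rw [← Subgroup.coe_inv, inv_eq_of_mul_eq_one_right hz] at h1
      show (z : G) * a * ((z : G) * a) ∈ D.A
      rw [show (z : G) * a * ((z : G) * a) = (z : G) * a * z * a by group]
      exact D.A.mul_mem h1 ha
    · rw [← QuotientGroup.eq_one_iff]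
      have h1 : (QuotientGroup.mk' (Cfsg.oddCore ↥D.N)) z' = QuotientGroup.mk' _ (z * a) := by
        rw [hz'e, map_mul, show (QuotientGroup.mk' (Cfsg.oddCore ↥D.N)) o = 1 from (QuotientGroup.eq_one_iff o).2 ho,
          mul_one]
      show QuotientGroup.mk' _ (z * a * (z * a)) = 1
      rw [map_mul, ← h1, ← map_mul, hz', map_one]
  obtain ⟨c, hc, hcc⟩ := D.coset_x0 hz hψ ha (congrArg Subtype.val hza)
  have hw : z' * (z * a) ∈ Cfsg.oddCore ↥D.N := by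
    rw [hz'e, show z * a * o * (z * a) = z * a * (z * a) * ((z * a)⁻¹ * o * (z * a)⁻¹⁻¹) by group, hza, one_mul]
    exact Subgroup.Normal.conj_mem inferInstance o ho _
  obtain ⟨m, -, hm⟩ := conj_mod_odd (Cfsg.oddCore ↥D.N) (Char.card_oddCore_odd _) hz' hza hw
  refine ⟨m * ⟨c, D.A_le hc⟩, ?_⟩
  rw [← hm, ← show (⟨c, D.A_le hc⟩ : ↥D.N) * z * ⟨c, D.A_le hc⟩⁻¹ = z * a from Subtype.ext hcc]
  group

theorem outer_conj {z z' : ↥D.N} (hz : z * z = 1) (hz' : z' * z' = 1) (hψ : D.ψ z ≠ 1)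
    (hψ' : D.ψ z' ≠ 1) : ∃ n : ↥D.N, n * z * n⁻¹ = z' := by
  have red : ∀ w : ↥D.N, w * w = 1 → D.ψ w ≠ 1 → ∃ l : ↥D.N, D.ψ (l * w * l⁻¹) = x0 := by
    intro w hw hw1
    obtain ⟨s, hs⟩ := invol_conj (D.ψ w) (by rw [← map_mul, hw, map_one]) hw1
    obtain ⟨l, hl⟩ := D.surj s⁻¹
    exact ⟨l, by rw [map_mul, map_mul, map_inv, hl, ← hs]; group⟩
  have sq : ∀ l w : ↥D.N, w * w = 1 → l * w * l⁻¹ * (l * w * l⁻¹) = 1 := fun l w hw => by
    rw [conj_mul, hw, mul_one, mul_inv_cancel]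
  obtain ⟨l, hl⟩ := red z hz hψ
  obtain ⟨l', hl'⟩ := red z' hz' hψ'
  obtain ⟨n, hn⟩ := D.outer_conj_x0 (sq l z hz) (sq l' z' hz') hl hl'
  refine ⟨l'⁻¹ * n * l, ?_⟩
  calc l'⁻¹ * n * l * z * (l'⁻¹ * n * l)⁻¹ = l'⁻¹ * (n * (l * z * l⁻¹) * n⁻¹) * l' := by group
    _ = z' := by rw [hn]; group

include D in
theorem not_two (p q : G) : ¬ ∀ z : G, z * z = 1 → z ≠ 1 → IsConj p z ∨ IsConj q z := by
  classical
  intro h
  letI : Fintype {c : ConjClasses G // ∃ x ∈ c.carrier, orderOf x = 2} := Fintype.ofFinite _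
  have h3 := D.h3
  rw [Nat.card_eq_fintype_card] at h3
  have : (Finset.univ.image (Subtype.val : {c : ConjClasses G // ∃ x ∈ c.carrier, orderOf x = 2} → _)) ⊆
      {ConjClasses.mk p, ConjClasses.mk q} := by
    intro c hc
    obtain ⟨⟨c, x, hx, ho⟩, -, rfl⟩ := Finset.mem_image.1 hc
    have hc' : ConjClasses.mk x = c := ConjClasses.mem_carrier_iff_mk_eq.1 hx
    rcases h x (by rw [← pow_two, ← ho, pow_orderOf_eq_one]) (fun e => by simp [e] at ho) with e | e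
    · exact Finset.mem_insert.2 (Or.inl (hc'.symm.trans (ConjClasses.mk_eq_mk_iff_isConj.2 e.symm)))
    · exact Finset.mem_insert.2 (Or.inr (Finset.mem_singleton.2
        (hc'.symm.trans (ConjClasses.mk_eq_mk_iff_isConj.2 e.symm))))
  have h2 := (Finset.card_le_card this).trans Finset.card_le_two
  rw [Finset.card_image_of_injective _ Subtype.val_injective, Finset.card_univ] at h2
  omega

theorem into_N {z : G} (hz : z * z = 1) : ∃ g : G, g * z * g⁻¹ ∈ D.N := by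
  haveI : Fact (Nat.Prime 2) := ⟨Nat.prime_two⟩
  obtain ⟨Q, hQN, -⟩ := D.exists_syl
  obtain ⟨g, -, hg⟩ := (Fusion.sylIn_top Q).conj_le (Q := Subgroup.zpowers z) (by
    refine two_of_sq fun y hy => ?_
    obtain ⟨i, rfl⟩ := Subgroup.mem_zpowers_iff.1 hy
    rw [← zpow_add, ← two_mul, zpow_mul, zpow_two, hz, one_zpow]) le_top
  exact ⟨g, hQN (hg (Fusion.conj_mem_cj (Subgroup.mem_zpowers z)))⟩

theorem intransitive : ∃ a b : ↥D.A, a ≠ 1 ∧ b ≠ 1 ∧ ∀ σ, D.ρ σ a ≠ b := by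
  classical
  by_contra hcon
  push Not at hcon
  haveI : Nontrivial ↥D.A := Finite.one_lt_card_iff_nontrivial.1 (by rw [D.h16]; norm_num)
  obtain ⟨a0, ha0⟩ := exists_ne (1 : ↥D.A)
  have hin : ∀ a : ↥D.A, a ≠ 1 → IsConj (a0 : G) a := fun a ha => by
    obtain ⟨σ, hσ⟩ := hcon a0 a ha0 ha
    obtain ⟨n, rfl⟩ := D.surj σ
    exact isConj_iff.2 ⟨n, (D.ρ_apply n a0).symm.trans (congrArg Subtype.val hσ)⟩
  by_cases hout : ∃ z : ↥D.N, z * z = 1 ∧ D.ψ z ≠ 1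
  · obtain ⟨z0, hz0, hψ0⟩ := hout
    refine D.not_two a0 z0 fun z hz hz1 => ?_
    obtain ⟨g, hg⟩ := D.into_N hz
    have hsq : (⟨_, hg⟩ : ↥D.N) * ⟨_, hg⟩ = 1 := Subtype.ext (by simp [hz])
    have hconj : IsConj (g * z * g⁻¹) z := (isConj_iff.2 ⟨g, rfl⟩).symm
    by_cases hψ : D.ψ ⟨_, hg⟩ = 1
    · exact Or.inl ((hin ⟨_, D.mem_A_invol hψ hsq⟩ fun e => hz1
        (conj_eq_one_iff.1 (congrArg Subtype.val e))).trans hconj)
    · obtain ⟨n, hn⟩ := D.outer_conj hz0 hsq hψ0 hψ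
      exact Or.inr ((isConj_iff.2 ⟨(n : G), congrArg Subtype.val hn⟩).trans hconj)
  · refine D.not_two a0 a0 fun z hz hz1 => ?_
    obtain ⟨g, hg⟩ := D.into_N hz
    have hsq : (⟨_, hg⟩ : ↥D.N) * ⟨_, hg⟩ = 1 := Subtype.ext (by simp [hz])
    have hψ : D.ψ ⟨_, hg⟩ = 1 := by_contra fun h => hout ⟨_, hsq, h⟩
    exact Or.inl ((hin ⟨_, D.mem_A_invol hψ hsq⟩ fun e => hz1
      (conj_eq_one_iff.1 (congrArg Subtype.val e))).trans (isConj_iff.2 ⟨g, rfl⟩).symm)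

theorem coord_exists : ∃ E : V5 → ↥D.A, (∀ u v, (E (u + v) : G) = E u * E v) ∧
    (∀ (n : ↥D.N) u, (n : G) * E u * (n : G)⁻¹ = E (act (D.ψ n) u)) ∧
    (∀ a ∈ D.A, ∃ u, (E u : G) = a) ∧ ∀ u v, (E u : G) = E v ↔ Eqv u v := by
  letI := D.commA
  obtain ⟨E, hE⟩ := exists_coord D.ρ_inj D.sq_A D.h16 D.intransitive
  exact ⟨E, fun u v => congrArg Subtype.val (hE.add u v),
    fun n u => (D.ρ_apply n _).symm.trans (congrArg Subtype.val (hE.equiv _ u)),
    fun a ha => (hE.surj ⟨a, ha⟩).imp fun u h => congrArg Subtype.val h,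
    fun u v => ⟨fun h => (hE.eq_iff u v).1 (Subtype.ext h), fun h => congrArg Subtype.val ((hE.eq_iff u v).2 h)⟩⟩

/-- coordinates on `A` -/
noncomputable def e (u : V5) : G := (Classical.choose D.coord_exists u : G)

theorem e_mem (u : V5) : D.e u ∈ D.A := (Classical.choose D.coord_exists u).2

theorem e_add (u v : V5) : D.e (u + v) = D.e u * D.e v := (Classical.choose_spec D.coord_exists).1 u v

theorem e_conj (n : ↥D.N) (u : V5) : (n : G) * D.e u * (n : G)⁻¹ = D.e (act (D.ψ n) u) :=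
  (Classical.choose_spec D.coord_exists).2.1 n u

theorem e_surj {a : G} (ha : a ∈ D.A) : ∃ u, D.e u = a := (Classical.choose_spec D.coord_exists).2.2.1 a ha

theorem e_eq {u v : V5} : D.e u = D.e v ↔ Eqv u v := (Classical.choose_spec D.coord_exists).2.2.2 u v

theorem e_zero : D.e 0 = 1 := by
  have h := D.e_add 0 0
  rw [add_zero] at h
  exact mul_left_cancel (h.symm.trans (mul_one _).symm)

theorem e_eq_one {u : V5} : D.e u = 1 ↔ Eqv u 0 := by rw [← D.e_zero, D.e_eq]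

/-- the fixed point -/
noncomputable def pS : G := D.e (dl 4)

/-- the pair point -/
noncomputable def pN : G := D.e (dl 0 + dl 1)

theorem conj_point (i : Fin 5) : ∃ n : ↥D.N, (n : G) * D.pS * (n : G)⁻¹ = D.e (dl i) := by
  obtain ⟨s, hs⟩ := reach i
  obtain ⟨n, hn⟩ := D.surj s
  refine ⟨n, (D.e_conj n _).trans (congrArg D.e ?_)⟩
  rw [hn]
  funext j
  simp only [act, dl, Pi.single_apply, Equiv.Perm.inv_eq_iff_eq, hs]

theorem conj_pair {i j : Fin 5} (h : i ≠ j) :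
    ∃ n : ↥D.N, (n : G) * D.pN * (n : G)⁻¹ = D.e (dl i + dl j) := by
  obtain ⟨s, hs⟩ := reach_pair i j h
  obtain ⟨n, hn⟩ := D.surj s
  exact ⟨n, (D.e_conj n _).trans (congrArg D.e (hn ▸ hs))⟩

theorem two_types {a : G} (ha : a ∈ D.A) (ha1 : a ≠ 1) :
    ∃ n : ↥D.N, (n : G) * D.pS * (n : G)⁻¹ = a ∨ (n : G) * D.pN * (n : G)⁻¹ = a := by
  obtain ⟨u, rfl⟩ := D.e_surj ha
  rcases classify u with h | ⟨i, h⟩ | ⟨i, j, hij, h⟩
  · exact absurd (D.e_eq_one.2 h) ha1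
  · obtain ⟨n, hn⟩ := D.conj_point i
    exact ⟨n, Or.inl (hn.trans (D.e_eq.2 h).symm)⟩
  · obtain ⟨n, hn⟩ := D.conj_pair hij
    exact ⟨n, Or.inr (hn.trans (D.e_eq.2 h).symm)⟩

theorem three : (∃ z : ↥D.N, z * z = 1 ∧ D.ψ z = x0) ∧ ¬ IsConj D.pS D.pN ∧
    ∀ (a : G) (z : ↥D.N), a ∈ D.A → z * z = 1 → D.ψ z ≠ 1 → ¬ IsConj a (z : G) := by
  -- a complete list of representatives
  have cover : ∀ z : G, z * z = 1 → z ≠ 1 → IsConj D.pS z ∨ IsConj D.pN z ∨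
      ∃ z' : ↥D.N, z' * z' = 1 ∧ D.ψ z' ≠ 1 ∧ IsConj (z' : G) z := by
    intro z hz hz1
    obtain ⟨g, hg⟩ := D.into_N hz
    have hsq : (⟨_, hg⟩ : ↥D.N) * ⟨_, hg⟩ = 1 := Subtype.ext (by simp [hz])
    have hconj : IsConj (g * z * g⁻¹) z := (isConj_iff.2 ⟨g, rfl⟩).symm
    by_cases hψ : D.ψ ⟨_, hg⟩ = 1
    · obtain ⟨n, hn | hn⟩ := D.two_types (D.mem_A_invol hψ hsq) (fun e => hz1 (conj_eq_one_iff.1 e))
      · exact Or.inl ((isConj_iff.2 ⟨(n : G), hn⟩).trans hconj)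
      · exact Or.inr (Or.inl ((isConj_iff.2 ⟨(n : G), hn⟩).trans hconj))
    · exact Or.inr (Or.inr ⟨⟨_, hg⟩, hsq, hψ, hconj⟩)
  have hzx : ∃ z : ↥D.N, z * z = 1 ∧ D.ψ z = x0 := by
    by_contra hno
    refine D.not_two D.pS D.pN fun z hz hz1 => ?_
    rcases cover z hz hz1 with h | h | ⟨z', hz', hψ', -⟩
    · exact Or.inl h
    · exact Or.inr h
    · exfalso
      obtain ⟨s, hs⟩ := invol_conj (D.ψ z') (by rw [← map_mul, hz', map_one]) hψ'
      obtain ⟨l, hl⟩ := D.surj s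
      exact hno ⟨l⁻¹ * z' * l, by
        rw [show l⁻¹ * z' * l * (l⁻¹ * z' * l) = l⁻¹ * (z' * z') * l by group, hz']; group, by
        rw [map_mul, map_mul, map_inv, hl, ← hs]; group⟩
  obtain ⟨z0, hz0, hψ0⟩ := hzx
  have hψ01 : D.ψ z0 ≠ 1 := hψ0 ▸ gens_facts.2.2.2.1
  have outer : ∀ z : ↥D.N, z * z = 1 → D.ψ z ≠ 1 → IsConj (z0 : G) z := fun z hz hψ => by
    obtain ⟨n, hn⟩ := D.outer_conj hz0 hz hψ01 hψ
    exact isConj_iff.2 ⟨(n : G), congrArg Subtype.val hn⟩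
  have cover' : ∀ z : G, z * z = 1 → z ≠ 1 → IsConj D.pS z ∨ IsConj D.pN z ∨ IsConj (z0 : G) z := fun z hz hz1 =>
    (cover z hz hz1).imp_right (Or.imp_right fun ⟨z', a, b, c⟩ => (outer z' a b).trans c)
  refine ⟨⟨z0, hz0, hψ0⟩, fun h => D.not_two D.pN z0 fun z hz hz1 => ?_, fun a z ha hz hψ hc => ?_⟩
  · rcases cover' z hz hz1 with e | e | e
    · exact Or.inl (h.symm.trans e)
    · exact Or.inl e
    · exact Or.inr e
  have ha1 : a ≠ 1 := fun e => hψ (by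
    rw [e, isConj_one_right] at hc
    rw [show z = 1 from Subtype.ext hc, map_one])
  have hc0 := hc.trans (outer z hz hψ).symm
  obtain ⟨n, hn | hn⟩ := D.two_types ha ha1
  · refine D.not_two D.pN z0 fun w hw hw1 => ?_
    rcases cover' w hw hw1 with e | e | e
    · exact Or.inr (((isConj_iff.2 ⟨(n : G), hn⟩).trans hc0).symm.trans e)
    · exact Or.inl e
    · exact Or.inr e
  · refine D.not_two D.pS z0 fun w hw hw1 => ?_
    rcases cover' w hw hw1 with e | e | e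
    · exact Or.inl e
    · exact Or.inr (((isConj_iff.2 ⟨(n : G), hn⟩).trans hc0).symm.trans e)
    · exact Or.inr e

theorem point_of_conj {u : V5} (h : IsConj D.pS (D.e u)) : ∃ i, Eqv u (dl i) := by
  rcases classify u with h0 | hi | ⟨i, j, hij, hu⟩
  · exfalso
    rw [D.e_eq_one.2 h0, isConj_one_left] at h
    exact dl_ne_zero 4 (D.e_eq_one.1 h)
  · exact hi
  · exfalso
    obtain ⟨n, hn⟩ := D.conj_pair hij
    exact D.three.2.1 (h.trans ((isConj_iff.2 ⟨(n : G), hn.trans (D.e_eq.2 hu).symm⟩).symm))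

theorem closed : Closed D.A := by
  haveI : Fact (Nat.Prime 2) := ⟨Nat.prime_two⟩
  obtain ⟨Q, hQN, hAQ⟩ := D.exists_syl
  refine closed_of_strongly (S := Q) ⟨hAQ, fun a ha g hg => ?_⟩
  have hsq : (⟨_, hQN hg⟩ : ↥D.N) * ⟨_, hQN hg⟩ = 1 := Subtype.ext (by simp [D.sq a ha])
  by_cases hψ : D.ψ ⟨_, hQN hg⟩ = 1
  · exact D.mem_A_invol hψ hsq
  · exact absurd (isConj_iff.2 ⟨g, rfl⟩) (D.three.2.2 a ⟨_, hQN hg⟩ ha hsq hψ)

end Data

end Cfsg.Agent.AEightClosed
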