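import Cfsg.Agent.S2931

/-!
A Sylow 2-subgroup of the alternating group of degree eight has no central subgroup of index four.
-/

set_option autoImplicit false

namespace Cfsg.Agent.AEightClosed

open scoped commutatorElement
open Cfsg.Agent.Solv.SylEight

/-- With a central subgroup of index four there is at most one nontrivial commutator up to inversion. -/
theorem comm_two_values {T : Type*} [Group T] (A : Subgroup T) (hc : A ≤ Subgroup.center T) (hi : A.index = 4)
    (a b c d : T) (hab : ⁅a, b⁆ ≠ 1) : ⁅c, d⁆ = 1 ∨ ⁅c, d⁆ = ⁅a, b⁆ ∨ ⁅c, d⁆ = ⁅a, b⁆⁻¹ := by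
  classical
  haveI : A.Normal := ⟨fun n hn g => by
    rw [Subgroup.mem_center_iff.1 (hc hn) g, mul_inv_cancel_right]; exact hn⟩
  haveI : Fintype (T ⧸ A) := @Fintype.ofFinite _ (Nat.finite_of_card_ne_zero
    (by rw [← Subgroup.index_eq_card, hi]; norm_num))
  haveI : Fact (Nat.Prime 2) := ⟨Nat.prime_two⟩
  let π := QuotientGroup.mk' A
  have hz : ∀ x y : T, π x = π y → ∃ z ∈ Subgroup.center T, x = y * z := fun x y h =>
    ⟨y⁻¹ * x, hc (QuotientGroup.eq.1 h.symm), by group⟩
  have key : ∀ x y x' y' : T, π x = π x' → π y = π y' → ⁅x, y⁆ = ⁅x', y'⁆ := by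
    intro x y x' y' hx hy
    obtain ⟨z, hzc, rfl⟩ := hz x x' hx
    obtain ⟨w, hwc, rfl⟩ := hz y y' hy
    simp only [commutatorElement_def, mul_inv_rev]
    have ez : ∀ g : T, z * g = g * z := fun g => (Subgroup.mem_center_iff.1 hzc g).symm
    have ew : ∀ g : T, w * g = g * w := fun g => (Subgroup.mem_center_iff.1 hwc g).symm
    calc x' * z * (y' * w) * (z⁻¹ * x'⁻¹) * (w⁻¹ * y'⁻¹)
        = x' * (z * (y' * w)) * z⁻¹ * x'⁻¹ * w⁻¹ * y'⁻¹ := by group
      _ = x' * y' * (w * x'⁻¹) * w⁻¹ * y'⁻¹ := by rw [ez]; group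
      _ = x' * y' * x'⁻¹ * y'⁻¹ := by rw [ew]; group
  have hcomm : ∀ p q : T ⧸ A, p * q = q * p :=
    IsPGroup.commutative_of_card_eq_prime_sq (p := 2) (by rw [← Subgroup.index_eq_card, hi]; rfl)
  have hcc : ⁅a, b⁆ ∈ Subgroup.center T := by
    refine hc ((QuotientGroup.eq_one_iff _).1 ?_)
    show π ⁅a, b⁆ = 1
    rw [map_commutatorElement, commutatorElement_eq_one_iff_mul_comm]
    exact hcomm _ _
  -- four cosets
  have ha : π a ≠ 1 := fun e => hab ((key a b 1 b (by rw [e, map_one]) rfl).trans (commutatorElement_one_left b))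
  have hb : π b ≠ 1 := fun e => hab ((key a b a 1 rfl (by rw [e, map_one])).trans (commutatorElement_one_right a))
  have hne : π a ≠ π b := fun e => hab ((key a b b b e rfl).trans (commutatorElement_self b))
  have hne' : π a * π b ≠ 1 := fun e => hne (by
    have h1 : π b = (π a)⁻¹ := eq_inv_of_mul_eq_one_right e
    exact absurd ((key a b a a⁻¹ rfl (by rw [h1, map_inv])).trans (by simp [commutatorElement_def])) hab)
  have huniv : ∀ p : T ⧸ A, p = π 1 ∨ p = π a ∨ p = π b ∨ p = π (a * b) := by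
    intro p
    have h4 : ({1, π a, π b, π a * π b} : Finset (T ⧸ A)).card = 4 := by
      rw [Finset.card_insert_of_notMem (by simp [Ne.symm ha, Ne.symm hb, Ne.symm hne']),
        Finset.card_insert_of_notMem (by simp [hne, hb]),
        Finset.card_insert_of_notMem (by simp [ha]), Finset.card_singleton]
    have hall := Finset.eq_univ_of_card _ (h4.trans (by
      rw [← Nat.card_eq_fintype_card, ← Subgroup.index_eq_card, hi]))
    have := hall.symm ▸ Finset.mem_univ p
    simpa [π] using this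
  have cab : ∀ g : T, g * ⁅a, b⁆ = ⁅a, b⁆ * g := Subgroup.mem_center_iff.1 hcc
  have e1 : ⁅a, a * b⁆ = ⁅a, b⁆ := by
    rw [show ⁅a, a * b⁆ = a * ⁅a, b⁆ * a⁻¹ by simp only [commutatorElement_def]; group, cab, mul_inv_cancel_right]
  have e2 : ⁅a * b, a⁆ = ⁅a, b⁆⁻¹ := by rw [← commutatorElement_inv, e1]
  have e3 : ⁅b, a * b⁆ = ⁅a, b⁆⁻¹ := by
    rw [show ⁅b, a * b⁆ = ⁅b, a⁆ by simp only [commutatorElement_def]; group, commutatorElement_inv]
  have e4 : ⁅a * b, b⁆ = ⁅a, b⁆ := by rw [← commutatorElement_inv, e3, inv_inv]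
  rcases huniv (π c) with hc1 | hc1 | hc1 | hc1 <;> rcases huniv (π d) with hd1 | hd1 | hd1 | hd1 <;>
    rw [key c d _ _ hc1 hd1] <;> simp [e1, e2, e3, e4]

theorem card_sylow_eight (P : Sylow 2 ↥(alternatingGroup (Fin 8))) : Nat.card P = 64 := by
  obtain ⟨e⟩ := S2931.alt_side P
  rw [← Nat.card_congr e.toEquiv, S2931.card_WV]
  rfl

theorem no_central_index_four (P : Sylow 2 ↥(alternatingGroup (Fin 8))) {T : Type*} [Group T]
    (f : T ≃* P) (A : Subgroup T) (hc : A ≤ Subgroup.center T) : A.index ≠ 4 := by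
  intro hi
  obtain ⟨e⟩ := S2931.alt_side P
  let W := Multiplicative BB ⋊[S2931.phiV] Multiplicative VV
  let a : W := SemidirectProduct.inr (Multiplicative.ofAdd ((1, 0) : VV))
  let a' : W := SemidirectProduct.inr (Multiplicative.ofAdd ((0, 1) : VV))
  let b : W := SemidirectProduct.inl (Multiplicative.ofAdd (Pi.single ((0, 0) : VV) 1 : BB))
  let F : W ≃* T := e.trans f.symm
  have h0 : (⁅a, b⁆).left ≠ (1 : W).left ∧ (⁅a', b⁆).left ≠ (1 : W).left ∧ (⁅a', b⁆).left ≠ (⁅a, b⁆).left ∧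
      (⁅a', b⁆).left ≠ (⁅a, b⁆⁻¹).left := by decide +kernel
  have hl : ∀ {x y : W}, x.left ≠ y.left → x ≠ y := fun h e => h (congrArg SemidirectProduct.left e)
  obtain ⟨h1, h2, h3, h4⟩ := h0.imp hl (And.imp hl (And.imp hl hl))
  have hF : ∀ x y : W, ⁅F x, F y⁆ = F ⁅x, y⁆ := fun x y => (map_commutatorElement F x y).symm
  rcases comm_two_values A hc hi (F a) (F b) (F a') (F b) (by rw [hF]; exact fun h => h1 (F.map_eq_one_iff.1 h))
    with h | h | h
  · exact h2 (F.map_eq_one_iff.1 ((hF _ _).symm.trans h))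
  · exact h3 (F.injective (by rw [← hF, ← hF]; exact h))
  · exact h4 (F.injective (by rw [← hF, map_inv, ← hF]; exact h))

end Cfsg.Agent.AEightClosed
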